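import Groth.Agent.Lib.RelDiv.Sum

/-!
# Cancellation for relative divisors
-/

universe u

open CategoryTheory AlgebraicGeometry

namespace GrothLib.RelDiv

variable {X S : Scheme.{u}}

theorem le_of_mul_le_mul_left {A B C : X.IdealSheafData} (hA : _root_.BlowUp.IsEffCartierIdeal A)
    (h : A * B ≤ A * C) : B ≤ C := by
  choose V hxV a ha ea using hA
  refine Scheme.IdealSheafData.le_of_iSup_eq_top V
    (top_unique fun x _ => TopologicalSpace.Opens.mem_iSup.2 ⟨x, hxV x⟩) fun x z hz => ?_
  have := h (V x) (show a x * z ∈ (A * B).ideal (V x) by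
    rw [Scheme.IdealSheafData.ideal_mul]
    exact Ideal.mul_mem_mul ((ea x).ge (Ideal.mem_span_singleton_self _)) hz)
  rw [Scheme.IdealSheafData.ideal_mul, Pi.mul_apply, ea x, Ideal.mem_span_singleton_mul] at this
  obtain ⟨c, hc, he⟩ := this
  rwa [← (mul_cancel_left_mem_nonZeroDivisors (ha x)).1 he]

theorem eq_of_mul_eq_mul_left {A B C : X.IdealSheafData} (hA : _root_.BlowUp.IsEffCartierIdeal A)
    (h : A * B = A * C) : B = C :=
  le_antisymm (le_of_mul_le_mul_left hA h.le) (le_of_mul_le_mul_left hA h.ge)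

variable (f : X ⟶ S)

/-- A divisor of degree zero is empty. -/
theorem eq_top_of_deg_zero {I : X.IdealSheafData} (h : Mor2.IsFinLocFreeOfDeg 0 (I.subschemeι ≫ f)) :
    I = ⊤ := by
  rw [← Scheme.IdealSheafData.support_eq_bot_iff]
  refine SetLike.coe_injective (Set.eq_empty_iff_forall_notMem.2 fun x hx => ?_)
  rw [← Scheme.IdealSheafData.range_subschemeι] at hx
  obtain ⟨z, -⟩ := hx
  haveI := h.1.1
  haveI := h.1.2.1
  have := Scheme.Hom.one_le_finrank_map (I.subschemeι ≫ f) z
  rw [h.2] at this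
  omega

/-- Nested divisors of the same degree are equal. -/
theorem eq_of_le_of_deg_eq [SmoothOfRelativeDimension 1 f] {A B : X.IdealSheafData} {d : ℕ} (hle : B ≤ A)
    (hA : Mor2.IsFinLocFreeOfDeg d (A.subschemeι ≫ f)) (hB : Mor2.IsFinLocFreeOfDeg d (B.subschemeι ≫ f)) :
    B = A := by
  obtain ⟨I, hI, rfl⟩ := exists_difference f hle hA hB
  rw [Nat.sub_self] at hI
  rw [eq_top_of_deg_zero f hI, ← Scheme.IdealSheafData.one_eq_top, mul_one]

theorem mul_le_self (A B : X.IdealSheafData) : A * B ≤ A := fun _ => Ideal.mul_le_left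

end GrothLib.RelDiv
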