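import Groth.Prelude.Def_HilbD
import Mathlib.AlgebraicGeometry.IdealSheaf.Functorial
import Mathlib.AlgebraicGeometry.Morphisms.FlatRank
import Mathlib.AlgebraicGeometry.Morphisms.Finite
import Mathlib.AlgebraicGeometry.Morphisms.Separated

/-!
# The Hilbert functor of points: elementary functoriality
-/

universe u

open CategoryTheory CategoryTheory.Limits AlgebraicGeometry

namespace GrothLib.HilbFun

variable {X S : Scheme.{u}} (f : X ⟶ S)

set_option backward.isDefEq.respectTransparency false in
theorem isPullback_XTmap {T T' : Over S} (g : T' ⟶ T) :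
    IsPullback (PicF.XTmap f g) (PicF.XTproj f T') (PicF.XTproj f T) g.left := by
  refine IsPullback.of_right (h₁₂ := pullback.fst f T.hom) ?_ ?_ (IsPullback.of_hasPullback f T.hom)
  · simpa [PicF.XTmap, Over.w g] using IsPullback.of_hasPullback f T'.hom
  · simp [PicF.XTmap, PicF.XTproj]

theorem pull_eq_comap {T T' : Over S} (g : T' ⟶ T) (I : (PicF.XT f T).IdealSheafData) :
    HilbD.pull f g I = I.comap (PicF.XTmap f g) := by
  rw [HilbD.pull, Scheme.IdealSheafData.comap, ← pullbackSymmetry_hom_comp_fst, Scheme.Hom.ker_comp_of_isIso]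

set_option backward.isDefEq.respectTransparency false in
theorem pull_pull {T T' T'' : Over S} (g : T' ⟶ T) (h : T'' ⟶ T') (I : (PicF.XT f T).IdealSheafData) :
    HilbD.pull f h (HilbD.pull f g I) = HilbD.pull f (h ≫ g) I := by
  rw [pull_eq_comap, pull_eq_comap, pull_eq_comap, ← Scheme.IdealSheafData.comap_comp]
  congr 1
  refine pullback.hom_ext ?_ ?_ <;> simp [PicF.XTmap]

set_option backward.isDefEq.respectTransparency false in
theorem pull_id {T : Over S} (I : (PicF.XT f T).IdealSheafData) : HilbD.pull f (𝟙 T) I = I := by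
  rw [pull_eq_comap, show PicF.XTmap f (𝟙 T) = 𝟙 _ from by
    refine pullback.hom_ext ?_ ?_ <;> simp [PicF.XTmap], Scheme.IdealSheafData.comap_id]

set_option backward.isDefEq.respectTransparency false in
theorem isPullback_subscheme_pull {T T' : Over S} (g : T' ⟶ T) (I : (PicF.XT f T).IdealSheafData) :
    IsPullback ((I.comapIso (PicF.XTmap f g)).hom ≫ pullback.snd _ _)
      ((I.comap (PicF.XTmap f g)).subschemeι ≫ PicF.XTproj f T')
      (I.subschemeι ≫ PicF.XTproj f T) g.left := by
  refine IsPullback.paste_vert ?_ (isPullback_XTmap f g)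
  exact IsPullback.of_iso_pullback ⟨by rw [Category.assoc, ← pullback.condition,
      Scheme.IdealSheafData.comapIso_hom_fst_assoc]⟩
    (I.comapIso _ ≪≫ pullbackSymmetry _ _)
    (by rw [Iso.trans_hom, Category.assoc]; erw [pullbackSymmetry_hom_comp_fst])
    (by rw [Iso.trans_hom, Category.assoc]; erw [pullbackSymmetry_hom_comp_snd]; exact I.comapIso_hom_fst _)

/-- Base change preserves the Hilbert functor of points. -/
theorem isFinLocFreeOfDeg_pull {d : ℕ} {T T' : Over S} (g : T' ⟶ T) {I : (PicF.XT f T).IdealSheafData}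
    (h : Mor2.IsFinLocFreeOfDeg d (I.subschemeι ≫ PicF.XTproj f T)) :
    Mor2.IsFinLocFreeOfDeg d ((HilbD.pull f g I).subschemeι ≫ PicF.XTproj f T') := by
  rw [pull_eq_comap]
  have H := isPullback_subscheme_pull f g I
  haveI := h.1.1
  haveI := h.1.2.1
  haveI := h.1.2.2
  exact ⟨⟨MorphismProperty.of_isPullback H h.1.1, MorphismProperty.of_isPullback H h.1.2.1,
    MorphismProperty.of_isPullback H h.1.2.2⟩, fun y => by
      rw [Scheme.Hom.finrank_of_isPullback _ _ _ _ H]; exact h.2 _⟩

/-- A closed immersion is the inclusion of the subscheme of its kernel. -/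
theorem exists_iso_ker {W Y : Scheme.{u}} (j : W ⟶ Y) [IsClosedImmersion j] :
    ∃ e : W ≅ j.ker.subscheme, e.hom ≫ j.ker.subschemeι = j :=
  ⟨asIso j.toImage, j.toImage_imageι⟩

theorem comap_ker {W Y Y' W' : Scheme.{u}} (j : W ⟶ Y) [IsClosedImmersion j] {m : Y' ⟶ Y} {j' : W' ⟶ Y'}
    {q : W' ⟶ W} (H : IsPullback j' q m j) : j.ker.comap m = j'.ker := by
  obtain ⟨e, he⟩ := exists_iso_ker j
  have H' : IsPullback j' (q ≫ e.hom) m j.ker.subschemeι :=
    H.of_iso (Iso.refl _) (Iso.refl _) e (Iso.refl _) (by simp) (by simp) (by simp) (by simp [he])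
  rw [Scheme.IdealSheafData.comap, ← H'.isoPullback_hom_fst, Scheme.Hom.ker_comp_of_isIso]

variable [IsSeparated f]

instance isClosedImmersion_graph (T : Over S) (x : T.left ⟶ X) (hx : x ≫ f = T.hom) :
    IsClosedImmersion (pullback.lift (f := f) (g := T.hom) x (𝟙 T.left) (by simpa using hx)) := by
  haveI : IsClosedImmersion (pullback.lift (f := f) (g := T.hom) x (𝟙 T.left) (by simpa using hx) ≫ pullback.snd f T.hom) := by
    rw [pullback.lift_snd]; infer_instance
  exact IsClosedImmersion.of_comp _ (pullback.snd f T.hom)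

set_option backward.isDefEq.respectTransparency false in
theorem secGraph_mem (T : Over S) (x : T.left ⟶ X) (hx : x ≫ f = T.hom) :
    Mor2.IsFinLocFreeOfDeg 1 ((HilbD.secGraph f T x hx).subschemeι ≫ PicF.XTproj f T) := by
  let j := pullback.lift (f := f) (g := T.hom) x (𝟙 T.left) (by simpa using hx)
  haveI : IsClosedImmersion j := isClosedImmersion_graph f T x hx
  obtain ⟨e, he⟩ := exists_iso_ker j
  have h : (HilbD.secGraph f T x hx).subschemeι ≫ PicF.XTproj f T = e.inv := by
    show j.ker.subschemeι ≫ pullback.snd f T.hom = e.inv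
    rw [← cancel_epi e.hom, reassoc_of% he, Iso.hom_inv_id, pullback.lift_snd]
  rw [h]
  exact ⟨⟨inferInstance, inferInstance, inferInstance⟩, fun y => by rw [Scheme.Hom.finrank_eq_one_of_isIso]; rfl⟩

set_option backward.isDefEq.respectTransparency false in
theorem pull_secGraph {T T' : Over S} (g : T' ⟶ T) (x : T.left ⟶ X) (hx : x ≫ f = T.hom) :
    HilbD.pull f g (HilbD.secGraph f T x hx) =
      HilbD.secGraph f T' (g.left ≫ x) (by rw [Category.assoc, hx, Over.w g]) := by
  rw [pull_eq_comap]
  haveI := isClosedImmersion_graph f T x hx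
  refine comap_ker _ (q := g.left) ?_
  refine IsPullback.of_right ?_ ?_ (isPullback_XTmap f g).flip
  · simpa [PicF.XTproj] using (IsPullback.of_horiz_isIso (fst := 𝟙 T'.left) (snd := g.left) (f := g.left) (g := 𝟙 T.left) ⟨by simp⟩)
  · refine pullback.hom_ext ?_ ?_ <;> simp [PicF.XTmap]
    exact Category.id_comp _

set_option backward.isDefEq.respectTransparency false in
theorem secGraph_injective (T : Over S) (x x' : T.left ⟶ X) (hx : x ≫ f = T.hom) (hx' : x' ≫ f = T.hom)
    (h : HilbD.secGraph f T x hx = HilbD.secGraph f T x' hx') : x = x' := by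
  let j := pullback.lift (f := f) (g := T.hom) x (𝟙 T.left) (by simpa using hx)
  let j' := pullback.lift (f := f) (g := T.hom) x' (𝟙 T.left) (by simpa using hx')
  haveI : IsClosedImmersion j := isClosedImmersion_graph f T x hx
  have hk : j.ker ≤ j'.ker := h.le
  have e := IsClosedImmersion.lift_fac j j' hk
  set l := IsClosedImmersion.lift j j' hk
  have hl : l = 𝟙 _ := by
    have := congrArg (· ≫ pullback.snd f T.hom) e
    simpa [j, j'] using this
  rw [hl, Category.id_comp] at e
  have := congrArg (· ≫ pullback.fst f T.hom) e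
  simpa [j, j'] using this

set_option backward.isDefEq.respectTransparency false in
theorem exists_section_of_deg_one {T : Over S} {I : (PicF.XT f T).IdealSheafData}
    (h : Mor2.IsFinLocFreeOfDeg 1 (I.subschemeι ≫ PicF.XTproj f T)) :
    ∃ (x : T.left ⟶ X) (hx : x ≫ f = T.hom), I = HilbD.secGraph f T x hx := by
  obtain ⟨⟨h1, h2, h3⟩, h4⟩ := h
  haveI : IsIso (I.subschemeι ≫ PicF.XTproj f T) :=
    (Scheme.Hom.isIso_iff_finrank_eq _).2 (funext h4)
  let σ := inv (I.subschemeι ≫ PicF.XTproj f T) ≫ I.subschemeι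
  have hσ : σ ≫ pullback.snd f T.hom = 𝟙 _ := by
    show (inv (I.subschemeι ≫ PicF.XTproj f T) ≫ I.subschemeι) ≫ PicF.XTproj f T = _
    rw [Category.assoc, IsIso.inv_hom_id]
  refine ⟨σ ≫ pullback.fst f T.hom, by rw [Category.assoc, pullback.condition, reassoc_of% hσ], ?_⟩
  rw [HilbD.secGraph]
  have e : pullback.lift (σ ≫ pullback.fst f T.hom) (𝟙 T.left)
      (by rw [Category.assoc, pullback.condition, reassoc_of% hσ, Category.id_comp]) = σ := by
    refine pullback.hom_ext ?_ ?_ <;> simp [hσ]
  rw [e, Scheme.Hom.ker_comp_of_isIso, Scheme.IdealSheafData.ker_subschemeι]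

end GrothLib.HilbFun
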