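import Groth.Agent.Lib.RelDiv.Basic
import Mathlib.AlgebraicGeometry.Morphisms.Smooth
import Mathlib.AlgebraicGeometry.Morphisms.QuasiFinite
import Mathlib.RingTheory.RingHom.StandardSmooth
import Mathlib.RingTheory.Unramified.LocalRing
import Mathlib.RingTheory.Localization.Algebra
import Mathlib.RingTheory.Flat.Localization
import Mathlib.RingTheory.Etale.Basic

/-!
# Relative effective Cartier divisors on smooth curves
-/

universe u

open CategoryTheory AlgebraicGeometry IsLocalRing Polynomial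

namespace GrothLib.RelDiv

open GrothLib.BlowUp (CartierOn exists_affine_mem_le)

section Alg

variable {R L : Type u} [CommRing R] [CommRing L] [Algebra R L] [IsLocalRing R] [IsLocalRing L]
  [IsLocalHom (algebraMap R L)]

omit [IsLocalRing L] [IsLocalHom (algebraMap R L)] in
theorem isSMulRegular_fibre_of_flat {g : L} (hg : g ∈ nonZeroDivisors L)
    [Module.Flat R (L ⧸ Ideal.span {g})] : IsSMulRegular (L ⧸ fibreIdeal R L) g := by
  rw [isSMulRegular_quotient_iff_mem_of_smul_mem]
  intro y hy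
  have h := inf_map_le_mul (maximalIdeal R) (Ideal.span {g})
    ⟨Ideal.mem_span_singleton'.2 ⟨y, by rw [smul_eq_mul, mul_comm]⟩, hy⟩
  obtain ⟨k, hk, hky⟩ := Ideal.mem_mul_span_singleton.1 h
  rw [smul_eq_mul, mul_comm] at hky
  rwa [← (mul_cancel_left_mem_nonZeroDivisors hg).1 hky]

/-- A regular element of the fibre of a line chart lies in no non-maximal prime. -/
theorem eq_maximalIdeal_of_mem_prime (a : L) (hflat : (Polynomial.aeval (R := R) a).toRingHom.Flat)
    (hm : maximalIdeal L ≤
      ((maximalIdeal L).comap (Polynomial.aeval (R := R) a).toRingHom).map (Polynomial.aeval (R := R) a).toRingHom)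
    [IsNoetherianRing (L ⧸ fibreIdeal R L)] {g : L} (hg : IsSMulRegular (L ⧸ fibreIdeal R L) g)
    (P : Ideal L) [P.IsPrime] (hK : fibreIdeal R L ≤ P) (hgP : g ∈ P) : P = maximalIdeal L := by
  refine le_antisymm (le_maximalIdeal Ideal.IsPrime.ne_top') ?_
  obtain ⟨hfield, -⟩ | ⟨π, -, -, hmL⟩ := exists_uniformizer a hflat hm
  · rw [hfield]; exact hK
  rw [hmL]
  refine sup_le ((Ideal.span_singleton_le_iff_mem _).2 ?_) hK
  by_contra hπ
  set K := fibreIdeal R L
  haveI : Nontrivial (L ⧸ K) :=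
    Ideal.Quotient.nontrivial_iff.2 (ne_top_of_le_ne_top (maximalIdeal.isMaximal L).ne_top fibreIdeal_le)
  haveI : IsLocalRing (L ⧸ K) := .of_surjective' (Ideal.Quotient.mk K) Ideal.Quotient.mk_surjective
  have hdiv : ∀ j, ∃ c ∈ P, g - π ^ j * c ∈ K := fun j => by
    induction j with
    | zero => exact ⟨g, hgP, by simp⟩
    | succ j ih =>
      obtain ⟨c, hcP, hc⟩ := ih
      have hcm : c ∈ maximalIdeal L := le_maximalIdeal Ideal.IsPrime.ne_top' hcP
      rw [hmL] at hcm
      obtain ⟨u, hu, v, hv, rfl⟩ := Submodule.mem_sup.1 hcm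
      obtain ⟨d, rfl⟩ := Ideal.mem_span_singleton.1 hu
      have hπd : π * d ∈ P := by simpa using sub_mem hcP (hK hv)
      refine ⟨d, (Ideal.IsPrime.mem_or_mem ‹_› hπd).resolve_left hπ, ?_⟩
      have e : g - π ^ (j + 1) * d = g - π ^ j * (π * d + v) + π ^ j * v := by ring
      rw [e]
      exact add_mem hc (K.mul_mem_left _ hv)
  have h0 : Ideal.Quotient.mk K g = 0 := by
    have hne : Ideal.span {Ideal.Quotient.mk K π} ≠ ⊤ := by
      intro hu
      have h1 : Ideal.Quotient.mk K 1 ∈ (Ideal.span {π}).map (Ideal.Quotient.mk K) := by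
        rw [Ideal.map_span, Set.image_singleton, hu]; trivial
      rw [Ideal.mem_quotient_iff_mem_sup, ← hmL, ← Ideal.eq_top_iff_one] at h1
      exact (maximalIdeal.isMaximal L).ne_top h1
    have := Ideal.iInf_pow_eq_bot_of_isLocalRing _ hne
    rw [← Submodule.mem_bot (R := L ⧸ K), ← this, Ideal.mem_iInf]
    intro j
    obtain ⟨c, -, hc⟩ := hdiv j
    rw [Ideal.span_singleton_pow, Ideal.mem_span_singleton]
    exact ⟨Ideal.Quotient.mk K c, by rw [← map_pow, ← map_mul]; exact Ideal.Quotient.eq.2 hc⟩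
  have := hg (show g • (1 : L ⧸ K) = g • 0 by
    rw [Algebra.smul_def, Ideal.Quotient.algebraMap_eq, h0, zero_mul, smul_zero])
  exact one_ne_zero this

end Alg

variable {X S : Scheme.{u}} (f : X ⟶ S)

set_option backward.isDefEq.respectTransparency false in
/-- At every point of a smooth curve there is a line chart. -/
theorem exists_line_chart [SmoothOfRelativeDimension 1 f] (x : X) :
    letI := (f.stalkMap x).hom.toAlgebra
    ∃ a : X.presheaf.stalk x, (Polynomial.aeval (R := S.presheaf.stalk (f x)) a).toRingHom.Flat ∧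
      maximalIdeal (X.presheaf.stalk x) ≤
        ((maximalIdeal (X.presheaf.stalk x)).comap (Polynomial.aeval (R := S.presheaf.stalk (f x)) a).toRingHom).map
          (Polynomial.aeval (R := S.presheaf.stalk (f x)) a).toRingHom := by
  obtain ⟨U, hU, V, hV, hxV, e, hsm⟩ :=
    SmoothOfRelativeDimension.exists_isStandardSmoothOfRelativeDimension (n := 1) (f := f) x
  obtain ⟨g, hgC, hg⟩ := hsm.exists_etale_mvPolynomial
  letI := (f.appLE U V e).hom.toAlgebra
  let a₀ : Γ(X, V) := g (MvPolynomial.X 0)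
  let ψ₀ := (Polynomial.aeval (R := Γ(S, U)) a₀).toRingHom
  let e₁ : Polynomial Γ(S, U) ≃ₐ[Γ(S, U)] MvPolynomial (Fin 1) Γ(S, U) :=
    AlgEquiv.ofAlgHom (Polynomial.aeval (MvPolynomial.X 0)) (MvPolynomial.aeval fun _ => Polynomial.X)
      (MvPolynomial.algHom_ext fun i => by fin_cases i; simp) (Polynomial.algHom_ext (by simp))
  have hψ₀ : ψ₀ = g.comp e₁.toRingEquiv.toRingHom := by
    refine Polynomial.ringHom_ext (fun r => ?_) ?_
    · simp [ψ₀, e₁, RingHom.algebraMap_toAlgebra, ← hgC]
    · simp [ψ₀, e₁, a₀]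
  have het : ψ₀.Etale := by
    rw [hψ₀]
    exact RingHom.Etale.respectsIso.2 _ e₁.toRingEquiv hg
  letI : Algebra (Polynomial Γ(S, U)) Γ(X, V) := ψ₀.toAlgebra
  haveI : Algebra.Etale (Polynomial Γ(S, U)) Γ(X, V) := het
  let L := X.presheaf.stalk x
  let R := S.presheaf.stalk (f x)
  let Q := (hV.primeIdealOf ⟨x, hxV⟩).asIdeal
  letI algL : Algebra Γ(X, V) L := (X.presheaf.germ V x hxV).hom.toAlgebra
  haveI : IsLocalization.AtPrime L Q := hV.isLocalization_stalk ⟨x, hxV⟩
  letI : Algebra R L := (f.stalkMap x).hom.toAlgebra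
  letI : Algebra Γ(S, U) R := (S.presheaf.germ U (f x) (e hxV)).hom.toAlgebra
  haveI : IsLocalization.AtPrime R (hU.primeIdealOf ⟨f x, e hxV⟩).asIdeal :=
    hU.isLocalization_stalk ⟨f x, e hxV⟩
  let a : L := algebraMap Γ(X, V) L a₀
  refine ⟨a, ?_⟩
  letI : Algebra (Polynomial Γ(S, U)) L := ((algebraMap Γ(X, V) L).comp ψ₀).toAlgebra
  haveI : IsScalarTower (Polynomial Γ(S, U)) Γ(X, V) L := IsScalarTower.of_algebraMap_eq fun _ => rfl
  haveI : Module.Flat Γ(X, V) L := IsLocalization.flat L Q.primeCompl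
  haveI : Module.Flat (Polynomial Γ(S, U)) Γ(X, V) := inferInstance
  haveI : Module.Flat (Polynomial Γ(S, U)) L := Module.Flat.trans _ Γ(X, V) _
  haveI : Algebra.FormallyUnramified Γ(X, V) L := Algebra.FormallyUnramified.of_isLocalization Q.primeCompl
  haveI : Algebra.FormallyUnramified (Polynomial Γ(S, U)) L := Algebra.FormallyUnramified.comp _ Γ(X, V) _
  haveI : Algebra.EssFiniteType Γ(X, V) L := Algebra.EssFiniteType.of_isLocalization L Q.primeCompl
  haveI : Algebra.EssFiniteType (Polynomial Γ(S, U)) L := Algebra.EssFiniteType.comp _ Γ(X, V) _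
  set ψ := (Polynomial.aeval (R := R) a).toRingHom with hψ
  letI : Algebra (Polynomial Γ(S, U)) (Polynomial R) := Polynomial.algebra Γ(S, U) R
  letI : Algebra (Polynomial R) L := ψ.toAlgebra
  have hcomp : ψ.comp (algebraMap (Polynomial Γ(S, U)) (Polynomial R)) = (algebraMap Γ(X, V) L).comp ψ₀ := by
    refine Polynomial.ringHom_ext (fun r => ?_) ?_
    · simp [hψ, ψ₀, Polynomial.algebraMap_def, RingHom.algebraMap_toAlgebra, Scheme.Hom.appLE]
      exact (Scheme.Hom.germ_stalkMap_apply _ _ _ _ _).trans (TopCat.Presheaf.germ_res_apply _ _ _ _ _).symm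
    · simp [hψ, ψ₀, a, Polynomial.algebraMap_def]
  haveI : IsScalarTower (Polynomial Γ(S, U)) (Polynomial R) L := IsScalarTower.of_algebraMap_eq' hcomp.symm
  haveI := Polynomial.isLocalization (hU.primeIdealOf ⟨f x, e hxV⟩).asIdeal.primeCompl R
  refine ⟨(Module.flat_iff_of_isLocalization (Polynomial R)
    ((hU.primeIdealOf ⟨f x, e hxV⟩).asIdeal.primeCompl.map (C : _ →+* Polynomial Γ(S, U))) L).2 ‹_›, ?_⟩
  let φ := algebraMap (Polynomial Γ(S, U)) L
  let P := (maximalIdeal L).comap φ
  haveI : P.IsPrime := inferInstanceAs ((maximalIdeal L).comap φ).IsPrime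
  let Rp := Localization.AtPrime P
  have hP : ∀ y : P.primeCompl, IsUnit (φ y) := fun y => by
    by_contra hu
    exact y.2 hu
  letI : Algebra Rp L := (IsLocalization.lift (S := Rp) hP).toAlgebra
  haveI : IsScalarTower (Polynomial Γ(S, U)) Rp L :=
    IsScalarTower.of_algebraMap_eq fun y => (IsLocalization.lift_eq (S := Rp) hP y).symm
  haveI : IsLocalHom (algebraMap Rp L) := ⟨fun y hy => by
    obtain ⟨r, t, rfl⟩ := IsLocalization.exists_mk'_eq P.primeCompl y
    have hr : IsUnit (φ r) := by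
      have := hy.mul ((hP t))
      rw [show φ t = algebraMap Rp L (algebraMap _ Rp (t : Polynomial Γ(S, U))) from
        IsScalarTower.algebraMap_apply _ Rp L _, ← map_mul, IsLocalization.mk'_spec,
        ← IsScalarTower.algebraMap_apply] at this
      exact this
    exact (IsLocalization.AtPrime.isUnit_mk'_iff Rp P r t).2 fun h => h hr⟩
  haveI : Algebra.FormallyUnramified Rp L := .of_restrictScalars (Polynomial Γ(S, U)) _ _
  haveI : Algebra.EssFiniteType Rp L := .of_comp (Polynomial Γ(S, U)) _ _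
  have key : maximalIdeal L = P.map φ := by
    rw [← Algebra.FormallyUnramified.map_maximalIdeal (R := Rp) (S := L),
      ← Localization.AtPrime.map_eq_maximalIdeal, Ideal.map_map, ← IsScalarTower.algebraMap_eq]
  have hφ : φ = ψ.comp (algebraMap _ (Polynomial R)) := IsScalarTower.algebraMap_eq _ (Polynomial R) L
  refine key.le.trans ?_
  rw [hφ, ← Ideal.map_map]
  refine Ideal.map_mono (Ideal.map_le_iff_le_comap.2 fun y hy => ?_)
  have hy' : φ y ∈ maximalIdeal L := hy
  rwa [hφ] at hy'

/-- A flat, locally finitely presented, quasi-finite closed subscheme of a smooth curve is a relative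
effective Cartier divisor. -/
theorem isEffCartierIdeal_of_quasiFinite [SmoothOfRelativeDimension 1 f] (I : X.IdealSheafData)
    [LocallyQuasiFinite (I.subschemeι ≫ f)] [Flat (I.subschemeι ≫ f)]
    [LocallyOfFinitePresentation (I.subschemeι ≫ f)] : _root_.BlowUp.IsEffCartierIdeal I := by
  haveI := SmoothOfRelativeDimension.smooth 1 f
  intro x
  obtain ⟨U, hxU, -⟩ := exists_affine_mem_le (W := (⊤ : S.Opens)) (x := f x) trivial
  obtain ⟨W, hxW, hWU⟩ := exists_affine_mem_le (W := f ⁻¹ᵁ U.1) (x := x) hxU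
  have hfg := fg_ideal_of_lfp f I U W hWU
  suffices ∃ h, IsSMulRegular (X.presheaf.stalk x ⧸
      (maximalIdeal (S.presheaf.stalk (f x))).map (f.stalkMap x).hom) h ∧
      (I.ideal W).map (X.presheaf.germ W.1 x hxW).hom = Ideal.span {h} by
    obtain ⟨h, hreg, hI⟩ := this
    obtain ⟨-, V', -, hxV', hC, -⟩ := exists_relCartier_nhd f I x (Flat.stalkMap _ _) W hxW hfg h hreg hI
    exact ⟨V', hxV', hC⟩
  by_cases htop : (I.ideal W).map (X.presheaf.germ W.1 x hxW).hom = ⊤
  · exact ⟨1, IsSMulRegular.one _, by rw [htop, Ideal.span_singleton_one]⟩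
  have hd := mem_support_of_map_germ_ne_top I W hxW htop
  rw [← SetLike.mem_coe, ← Scheme.IdealSheafData.range_subschemeι] at hd
  obtain ⟨d, rfl⟩ := hd
  set x := I.subschemeι d
  set J := (I.ideal W).map (X.presheaf.germ W.1 x hxW).hom
  let R := S.presheaf.stalk (f x)
  let L := X.presheaf.stalk x
  letI : Algebra R L := (f.stalkMap x).hom.toAlgebra
  haveI : IsLocalHom (algebraMap R L) := inferInstanceAs (IsLocalHom (f.stalkMap x).hom)
  obtain ⟨a, haflat, hm⟩ := exists_line_chart f x
  haveI : Algebra.QuasiFinite R (L ⧸ J) := by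
    have hq : ((I.subschemeι ≫ f).stalkMap d).hom.QuasiFinite := Scheme.Hom.quasiFiniteAt _ d
    rw [Scheme.Hom.stalkMap_comp] at hq
    erw [CommRingCat.hom_comp] at hq
    let E := (Ideal.quotEquivOfEq (GrothLib.BlowUp.ker_stalkMap_subschemeι I d W hxW).symm).trans
      (RingHom.quotientKerEquivOfSurjective (I.subschemeι.stalkMap_surjective d))
    have := RingHom.QuasiFinite.comp (RingHom.QuasiFinite.of_finite E.symm.finite) hq
    rw [← RingHom.quasiFinite_algebraMap]
    have e : algebraMap R (L ⧸ J) =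
        E.symm.toRingHom.comp ((I.subschemeι.stalkMap d).hom.comp (f.stalkMap x).hom) :=
      RingHom.ext fun r => E.injective (by simp [E, RingHom.algebraMap_toAlgebra, x]; rfl)
    rw [e]
    exact this
  haveI : Algebra.QuasiFinite R (L ⧸ (J ⊔ fibreIdeal R L)) :=
    Algebra.QuasiFinite.of_surjective_algHom (Ideal.Quotient.factorₐ R le_sup_left)
      (Ideal.Quotient.factor_surjective le_sup_left)
  haveI : Module.Finite R (L ⧸ (J ⊔ fibreIdeal R L)) := by
    let W' := L ⧸ (J ⊔ fibreIdeal R L)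
    letI : Algebra (ResidueField R) W' := Ideal.Quotient.lift (maximalIdeal R) (algebraMap R W') (fun r hr => by
      rw [IsScalarTower.algebraMap_apply R L W']
      exact Ideal.Quotient.eq_zero_iff_mem.2 (Ideal.mem_sup_right (Ideal.mem_map_of_mem _ hr))) |>.toAlgebra
    haveI : IsScalarTower R (ResidueField R) W' := IsScalarTower.of_algebraMap_eq fun r => rfl
    haveI : Algebra.QuasiFinite (ResidueField R) W' := .of_restrictScalars R _ _
    haveI : Module.Finite (ResidueField R) W' := Module.Finite.of_quasiFinite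
    exact Module.Finite.trans (ResidueField R) W'
  obtain ⟨h, hhJ, hreg, hle⟩ := exists_fibre_generator a haflat hm J (le_maximalIdeal htop)
  haveI : Module.Flat R (L ⧸ J) :=
    RingHom.flat_algebraMap_iff.mp (flat_quotient_stalk f I x W hxW)
  exact ⟨h, hreg, eq_span_of_flat_quotient (R := R) J (hfg.map _) hhJ hle⟩

theorem locallyOfFinitePresentation_of_isEffCartier [LocallyOfFinitePresentation f] {I : X.IdealSheafData}
    (hI : _root_.BlowUp.IsEffCartierIdeal I) : LocallyOfFinitePresentation (I.subschemeι ≫ f) := by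
  rw [HasRingHomProperty.iff_exists_appLE (P := @LocallyOfFinitePresentation)
    (RingHom.finitePresentation_stableUnderComposition.stableUnderCompositionWithLocalizationAway
      RingHom.finitePresentation_holdsForLocalizationAway).1]
  intro d
  obtain ⟨U, hxU, -⟩ := exists_affine_mem_le (W := (⊤ : S.Opens)) (x := f (I.subschemeι d)) trivial
  obtain ⟨V, hdV, hV, g, -, hg⟩ :=
    GrothLib.BlowUp.exists_cartierOn_le hI (W := f ⁻¹ᵁ U.1) (x := I.subschemeι d) hxU
  refine ⟨U, ⟨I.subschemeι ⁻¹ᵁ V.1, V.2.preimage I.subschemeι⟩, hdV, fun y hy => hV hy, ?_⟩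
  rw [GrothLib.BlowUp.subscheme_appLE_eq f I U V hV]
  refine (RingHom.finitePresentation_respectsIso.cancel_right_isIso _ _).mpr ?_
  rw [CommRingCat.hom_comp, CommRingCat.hom_ofHom]
  exact (RingHom.FinitePresentation.of_surjective _ Ideal.Quotient.mk_surjective
    (by rw [Ideal.mk_ker, hg]; exact ⟨{g}, by simp⟩)).comp (f.finitePresentation_appLE U.2 V.2 hV)

set_option backward.isDefEq.respectTransparency false in
/-- A relative effective Cartier divisor on a smooth curve is locally quasi-finite. -/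
theorem locallyQuasiFinite_of_isEffCartier [SmoothOfRelativeDimension 1 f] {I : X.IdealSheafData}
    (hI : _root_.BlowUp.IsEffCartierIdeal I) [Flat (I.subschemeι ≫ f)] :
    LocallyQuasiFinite (I.subschemeι ≫ f) := by
  haveI := SmoothOfRelativeDimension.smooth 1 f
  rw [HasRingHomProperty.iff_exists_appLE (P := @LocallyQuasiFinite)
    (RingHom.QuasiFinite.stableUnderComposition.stableUnderCompositionWithLocalizationAway
      RingHom.QuasiFinite.holdsForLocalizationAway).1]
  intro d
  obtain ⟨U, hxU, -⟩ := exists_affine_mem_le (W := (⊤ : S.Opens)) (x := f (I.subschemeι d)) trivial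
  obtain ⟨V, hdV, hV, g, hgn, hg⟩ :=
    GrothLib.BlowUp.exists_cartierOn_le hI (W := f ⁻¹ᵁ U.1) (x := I.subschemeι d) hxU
  refine ⟨U, ⟨I.subschemeι ⁻¹ᵁ V.1, V.2.preimage I.subschemeι⟩, hdV, fun y hy => hV hy, ?_⟩
  rw [GrothLib.BlowUp.subscheme_appLE_eq f I U V hV]
  refine (RingHom.QuasiFinite.respectsIso.cancel_right_isIso _ _).mpr ?_
  rw [CommRingCat.hom_comp, CommRingCat.hom_ofHom]
  have hft := f.finiteType_appLE U.2 V.2 hV
  algebraize [(f.appLE U.1 V.1 hV).hom]
  show Algebra.QuasiFinite Γ(S, U.1) (Γ(X, V.1) ⧸ I.ideal V)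
  let B := Γ(X, V.1) ⧸ I.ideal V
  rw [Algebra.QuasiFinite.iff_finite_comap_preimage_singleton]
  intro p
  -- every point of the fibre is maximal in the fibre
  have hmax : ∀ q q' : PrimeSpectrum B, PrimeSpectrum.comap (algebraMap Γ(S, U.1) B) q = p →
      PrimeSpectrum.comap (algebraMap Γ(S, U.1) B) q' = p → q' ≤ q → q' = q := by
    intro q q' hq hq' hle
    let Qs : PrimeSpectrum Γ(X, V.1) := PrimeSpectrum.comap (Ideal.Quotient.mk (I.ideal V)) q
    let Qs' : PrimeSpectrum Γ(X, V.1) := PrimeSpectrum.comap (Ideal.Quotient.mk (I.ideal V)) q'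
    let x := V.2.fromSpec Qs
    have hxV : x ∈ V.1 := by
      rw [← SetLike.mem_coe, ← V.2.range_fromSpec]; exact ⟨Qs, rfl⟩
    have hQ : V.2.primeIdealOf ⟨x, hxV⟩ = Qs :=
      V.2.fromSpec.isOpenEmbedding.injective (by rw [V.2.fromSpec_primeIdealOf])
    have hfx : U.2.primeIdealOf ⟨f x, hV hxV⟩ = p := by
      have h1 : PrimeSpectrum.comap (f.appLE U.1 V.1 hV).hom Qs = p := hq
      refine U.2.fromSpec.isOpenEmbedding.injective ?_
      rw [U.2.fromSpec_primeIdealOf, ← h1]
      show f x = (Spec.map (f.appLE U.1 V.1 hV) ≫ U.2.fromSpec) Qs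
      rw [IsAffineOpen.SpecMap_appLE_fromSpec]
      rfl
    let L := X.presheaf.stalk x
    let R := S.presheaf.stalk (f x)
    letI : Algebra Γ(X, V.1) L := (X.presheaf.germ V.1 x hxV).hom.toAlgebra
    haveI : IsLocalization.AtPrime L Qs.asIdeal := by rw [← hQ]; exact V.2.isLocalization_stalk ⟨x, hxV⟩
    letI : Algebra R L := (f.stalkMap x).hom.toAlgebra
    haveI : IsLocalHom (algebraMap R L) := inferInstanceAs (IsLocalHom (f.stalkMap x).hom)
    obtain ⟨a, haflat, hm⟩ := exists_line_chart f x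
    haveI : IsNoetherianRing (L ⧸ fibreIdeal R L) := by
      obtain ⟨z, hz⟩ : x ∈ Set.range (f.fiberι (f x)) := by rw [f.range_fiberι]; rfl
      obtain ⟨hsurj, hker⟩ := FibreFlat.fiberι_stalkMap' f (f x) z x hz
      haveI : LocallyOfFiniteType (f.fiberToSpecResidueField (f x)) :=
        MorphismProperty.pullback_snd _ _ inferInstance
      haveI : IsLocallyNoetherian (f.fiber (f x)) :=
        LocallyOfFiniteType.isLocallyNoetherian (f.fiberToSpecResidueField (f x))
      exact isNoetherianRing_of_ringEquiv _ ((Ideal.quotEquivOfEq (I := fibreIdeal R L) hker.symm).trans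
        (RingHom.quotientKerEquivOfSurjective hsurj)).symm
    let γ : L := algebraMap Γ(X, V.1) L g
    haveI : Module.Flat R (L ⧸ Ideal.span {γ}) := by
      have := flat_quotient_stalk f I x V hxV
      rw [hg, Ideal.map_span, Set.image_singleton] at this
      exact RingHom.flat_algebraMap_iff.mp this
    have hγ := isSMulRegular_fibre_of_flat (R := R) (GrothLib.BlowUp.germ_mem_nonZeroDivisors hgn hxV)
    let P := Qs'.asIdeal.map (algebraMap Γ(X, V.1) L)
    have hdisj : Disjoint (Qs.asIdeal.primeCompl : Set Γ(X, V.1)) Qs'.asIdeal :=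
      Set.disjoint_left.2 fun y hy hy' => hy (Ideal.comap_mono hle hy')
    haveI : P.IsPrime := IsLocalization.isPrime_of_isPrime_disjoint Qs.asIdeal.primeCompl L _ Qs'.2 hdisj
    have hK : fibreIdeal R L ≤ P := by
      letI : Algebra Γ(S, U.1) R := (S.presheaf.germ U.1 (f x) (hV hxV)).hom.toAlgebra
      haveI : IsLocalization.AtPrime R p.asIdeal := by rw [← hfx]; exact U.2.isLocalization_stalk ⟨f x, hV hxV⟩
      rw [fibreIdeal, ← IsLocalization.AtPrime.map_eq_maximalIdeal p.asIdeal R, Ideal.map_map,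
        Ideal.map_le_iff_le_comap]
      intro r hr
      have : f.appLE U.1 V.1 hV r ∈ Qs'.asIdeal := by
        rw [← hq'] at hr; exact hr
      show f.stalkMap x (S.presheaf.germ U.1 (f x) (hV hxV) r) ∈ P
      rw [Scheme.Hom.germ_stalkMap_apply]
      have e : X.presheaf.germ V.1 x hxV (f.appLE U.1 V.1 hV r) = X.presheaf.germ (f ⁻¹ᵁ U.1) x (hV hxV) (f.app U.1 r) := by
        rw [Scheme.Hom.appLE, CommRingCat.comp_apply, TopCat.Presheaf.germ_res_apply]
      rw [← e]
      exact Ideal.mem_map_of_mem _ this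
    have hgP : γ ∈ P := Ideal.mem_map_of_mem _ (by
      show Ideal.Quotient.mk (I.ideal V) g ∈ q'.asIdeal
      rw [Ideal.Quotient.eq_zero_iff_mem.2 (hg ▸ Ideal.mem_span_singleton_self g)]
      exact zero_mem _)
    have hPm := eq_maximalIdeal_of_mem_prime a haflat hm hγ P hK hgP
    refine PrimeSpectrum.comap_injective_of_surjective _ Ideal.Quotient.mk_surjective (PrimeSpectrum.ext ?_)
    show Qs'.asIdeal = Qs.asIdeal
    rw [← IsLocalization.comap_map_of_isPrime_disjoint Qs.asIdeal.primeCompl L Qs'.2 hdisj]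
    show P.comap _ = _
    rw [hPm]
    exact IsLocalization.AtPrime.under_maximalIdeal L Qs.asIdeal
  haveI : IsNoetherianRing (p.asIdeal.Fiber B) := Algebra.FiniteType.isNoetherianRing p.asIdeal.ResidueField _
  have hmin : ∀ r : PrimeSpectrum (p.asIdeal.Fiber B), r.asIdeal ∈ minimalPrimes (p.asIdeal.Fiber B) := by
    intro r
    refine ⟨⟨r.2, bot_le⟩, fun r' hr' hle => ?_⟩
    let e := PrimeSpectrum.preimageOrderIsoFiber Γ(S, U.1) B p
    let r'' : PrimeSpectrum (p.asIdeal.Fiber B) := ⟨r', hr'.1⟩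
    have hle' : e.symm r'' ≤ e.symm r := e.symm.monotone hle
    have heq : e.symm r'' = e.symm r := Subtype.ext (hmax _ _ (e.symm r).2 (e.symm r'').2 hle')
    exact (congrArg PrimeSpectrum.asIdeal (e.symm.injective heq)).ge
  haveI : Finite (PrimeSpectrum (p.asIdeal.Fiber B)) :=
    have := (minimalPrimes.finite_of_isNoetherianRing (p.asIdeal.Fiber B)).to_subtype
    Finite.of_injective (fun r => (⟨r.asIdeal, hmin r⟩ : minimalPrimes (p.asIdeal.Fiber B)))
      fun r r' h => PrimeSpectrum.ext (congrArg Subtype.val h)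
  exact (PrimeSpectrum.preimageEquivFiber Γ(S, U.1) B p).finite_iff.mpr inferInstance

end GrothLib.RelDiv
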