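import Groth.Agent.Lib.RelDiv.Basic
import Mathlib.AlgebraicGeometry.Morphisms.FlatRank
import Mathlib.AlgebraicGeometry.Morphisms.Finite
import Mathlib.RingTheory.Artinian.Ring
import Mathlib.LinearAlgebra.FiniteDimensional.Basic
import Mathlib.RingTheory.Spectrum.Prime.FreeLocus
import Mathlib.RingTheory.LocalProperties.Basic

/-!
# Degrees of sums of effective Cartier divisors, over a field
-/

universe u

open CategoryTheory CategoryTheory.Limits AlgebraicGeometry Opposite

namespace GrothLib.RelDiv

/-- Two ideals with zero product which locally are `(a)` and its annihilator are so globally. -/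
theorem exists_generator_ann {B : Type u} [CommRing B] [IsArtinianRing B] (J₁ J₂ : Ideal B)
    (hmul : J₁ * J₂ = ⊥)
    (h : ∀ (m : Ideal B) [m.IsMaximal], ∃ a ∈ J₁,
      J₁.map (algebraMap B (Localization.AtPrime m)) = Ideal.span {algebraMap B (Localization.AtPrime m) a} ∧
      ∀ z : Localization.AtPrime m, z * algebraMap B _ a = 0 →
        z ∈ J₂.map (algebraMap B (Localization.AtPrime m))) :
    ∃ a : B, J₁ = Ideal.span {a} ∧ ∀ b, b * a = 0 ↔ b ∈ J₂ := by
  classical
  haveI : Fintype (MaximalSpectrum B) := Fintype.ofFinite _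
  choose a ha hgen hann using fun m : MaximalSpectrum B => @h m.asIdeal m.isMaximal
  have hd : ∀ m n : MaximalSpectrum B, n ≠ m → ∃ c ∈ n.asIdeal, c ∉ m.asIdeal := fun m n hne => by
    by_contra! hc
    exact hne (MaximalSpectrum.ext (n.isMaximal.eq_of_le m.isMaximal.ne_top hc))
  choose! c hcn hcm using hd
  let e : MaximalSpectrum B → B := fun m => ∏ n ∈ Finset.univ.erase m, c m n
  have hem : ∀ m, e m ∉ m.asIdeal := fun m hm => by
    haveI := m.isMaximal
    obtain ⟨n, hn, hn'⟩ := (Ideal.IsPrime.prod_mem_iff (p := m.asIdeal)).1 hm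
    exact hcm m n (Finset.ne_of_mem_erase hn) hn'
  have hen : ∀ m n, n ≠ m → e m ∈ n.asIdeal := fun m n hne =>
    Ideal.mem_of_dvd _ (Finset.dvd_prod_of_mem _ (Finset.mem_erase.2 ⟨hne, Finset.mem_univ n⟩)) (hcn m n hne)
  let g := ∑ m, e m * a m
  have hg : g ∈ J₁ := sum_mem fun m _ => J₁.mul_mem_left _ (ha m)
  -- `g` is a unit multiple of the local generator
  have key : ∀ m : MaximalSpectrum B, haveI := m.isMaximal
      ∃ v : Localization.AtPrime m.asIdeal, IsUnit v ∧
        algebraMap B _ g = v * algebraMap B _ (a m) := fun m => by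
    haveI := m.isMaximal
    let L := Localization.AtPrime m.asIdeal
    choose r hr using fun n => Ideal.mem_span_singleton'.1
      ((hgen m).le (Ideal.mem_map_of_mem (algebraMap B L) (ha n)))
    refine ⟨algebraMap B L (e m) + ∑ n ∈ Finset.univ.erase m, algebraMap B L (e n) * r n, ?_, ?_⟩
    · have h1 : IsUnit (algebraMap B L (e m)) :=
        (IsLocalization.AtPrime.isUnit_to_map_iff L m.asIdeal (e m)).2 (hem m)
      have h2 : ∑ n ∈ Finset.univ.erase m, algebraMap B L (e n) * r n ∈ IsLocalRing.maximalIdeal L :=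
        sum_mem fun n hn => Ideal.mul_mem_right _ _
          ((IsLocalization.AtPrime.to_map_mem_maximal_iff L m.asIdeal (e n)).2
            (hen n m (Finset.ne_of_mem_erase hn).symm))
      by_contra hu
      exact (IsLocalRing.maximalIdeal.isMaximal L).ne_top (Ideal.eq_top_of_isUnit_mem _
        (by simpa using sub_mem (show _ ∈ IsLocalRing.maximalIdeal L from hu) h2) h1)
    · have hm0 : r m * algebraMap B L (a m) = algebraMap B L (a m) := hr m
      simp only [g, map_sum, map_mul]
      rw [← Finset.add_sum_erase _ _ (Finset.mem_univ m), add_mul, Finset.sum_mul]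
      exact congrArg _ (Finset.sum_congr rfl fun n _ => by rw [mul_assoc, hr n])
  refine ⟨g, Ideal.eq_of_localization_maximal fun P hP => ?_, fun b => ⟨fun hb => ?_, fun hb => ?_⟩⟩
  · obtain ⟨v, hv, hgv⟩ := key ⟨P, hP⟩
    rw [Ideal.map_span, Set.image_singleton, hgv, Ideal.span_singleton_mul_left_unit hv]
    exact hgen ⟨P, hP⟩
  · refine Ideal.mem_of_localization_maximal fun P hP => ?_
    obtain ⟨v, hv, hgv⟩ := key ⟨P, hP⟩
    refine hann ⟨P, hP⟩ _ ?_
    refine hv.mul_right_eq_zero.1 ?_
    rw [mul_left_comm, ← hgv, ← map_mul, hb, map_zero]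
  · have := Ideal.mul_mem_mul hg hb
    rw [hmul, Ideal.mem_bot] at this
    rw [mul_comm, this]

theorem finrank_eq_add {k B : Type u} [Field k] [CommRing B] [Algebra k B] [Module.Finite k B]
    {J₁ J₂ : Ideal B} {a : B} (h₁ : J₁ = Ideal.span {a}) (h₂ : ∀ b, b * a = 0 ↔ b ∈ J₂) :
    Module.finrank k B = Module.finrank k (B ⧸ J₁) + Module.finrank k (B ⧸ J₂) := by
  let φ : B →ₗ[k] B := LinearMap.mulRight k a
  have hr : LinearMap.range φ = J₁.restrictScalars k := by
    ext x
    simp [h₁, φ, LinearMap.mem_range, Ideal.mem_span_singleton']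
  have hk : LinearMap.ker φ = J₂.restrictScalars k := by
    ext x
    simp [φ, h₂]
  have e := φ.finrank_range_add_finrank_ker
  have e₁ := (J₁.restrictScalars k).finrank_quotient_add_finrank
  have e₂ := (J₂.restrictScalars k).finrank_quotient_add_finrank
  rw [hr, hk] at e
  rw [(Submodule.Quotient.restrictScalarsEquiv k J₁).finrank_eq] at e₁
  rw [(Submodule.Quotient.restrictScalarsEquiv k J₂).finrank_eq] at e₂
  omega

variable {k : Type u} [Field k]

/-- The algebra structure on global functions of a scheme over a field. -/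
noncomputable abbrev structAlg {Y : Scheme.{u}} (g : Y ⟶ Spec (.of k)) : k →+* Γ(Y, ⊤) :=
  ((Scheme.ΓSpecIso (.of k)).inv ≫ g.appTop).hom

theorem finite_structAlg {Y : Scheme.{u}} (g : Y ⟶ Spec (.of k)) [IsFinite g] : (structAlg g).Finite :=
  RingHom.Finite.comp (g.finite_appTop)
    (RingHom.Finite.of_surjective _ (ConcreteCategory.bijective_of_isIso (Scheme.ΓSpecIso (.of k)).inv).2)

set_option backward.isDefEq.respectTransparency false in
theorem finrank_eq_finrank_global {Y : Scheme.{u}} (g : Y ⟶ Spec (.of k)) [IsFinite g]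
    (p : Spec (.of k)) :
    g.finrank p = (letI := (structAlg g).toAlgebra; Module.finrank k Γ(Y, ⊤)) := by
  haveI : IsAffine Y := isAffine_of_isAffineHom g
  let φ : CommRingCat.of k ⟶ Γ(Y, ⊤) := (Scheme.ΓSpecIso (.of k)).inv ≫ g.appTop
  have hg : g = Y.isoSpec.hom ≫ Spec.map φ := by
    rw [Spec.map_comp, ← Category.assoc, Scheme.isoSpec_hom_naturality, Category.assoc]
    simp [Scheme.isoSpec_Spec]
  letI := (structAlg g).toAlgebra
  haveI : Module.Finite k Γ(Y, ⊤) := finite_structAlg g
  have hflat : Flat (Spec.map φ) :=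
    (HasRingHomProperty.Spec_iff (P := @Flat)).2 (RingHom.flat_algebraMap_iff.2 (inferInstanceAs (Module.Flat k Γ(Y, ⊤))))
  haveI : IsFinite (Spec.map φ) := (IsFinite.SpecMap_iff _).2 (finite_structAlg g)
  conv_lhs => rw [hg]
  rw [Scheme.Hom.finrank_comp_left_of_isIso]
  refine (Scheme.Hom.finrank_SpecMap_algebraMap k Γ(Y, ⊤) p).trans ?_
  rw [Module.rankAtStalk_eq_finrank_of_free]
  rfl

variable {X : Scheme.{u}}

set_option backward.isDefEq.respectTransparency false in
/-- The comap of `I₁` to a larger closed subscheme cuts out the same subscheme. -/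
theorem exists_iso_comap_subscheme {I J : X.IdealSheafData} (h : J ≤ I) :
    ∃ e : (I.comap J.subschemeι).subscheme ≅ I.subscheme,
      (I.comap J.subschemeι).subschemeι ≫ J.subschemeι = e.hom ≫ I.subschemeι := by
  let j := Scheme.IdealSheafData.inclusion h
  have hj : j ≫ J.subschemeι = I.subschemeι := Scheme.IdealSheafData.inclusion_subschemeι _
  let e' : pullback J.subschemeι I.subschemeι ≅ I.subscheme :=
    { hom := pullback.snd _ _
      inv := pullback.lift j (𝟙 _) (by simp [hj])
      hom_inv_id := by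
        apply pullback.hom_ext
        · rw [← cancel_mono J.subschemeι]; simp [hj, pullback.condition]
        · simp
      inv_hom_id := by simp }
  refine ⟨I.comapIso J.subschemeι ≪≫ e', ?_⟩
  rw [← Scheme.IdealSheafData.comapIso_hom_fst, Category.assoc, pullback.condition, Iso.trans_hom,
    Category.assoc]

set_option backward.isDefEq.respectTransparency false in
/-- The degree of a closed subscheme of a finite scheme over a field. -/
theorem finrank_comap {I J : X.IdealSheafData} (h : J ≤ I) (f : X ⟶ Spec (.of k))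
    [IsFinite (J.subschemeι ≫ f)] [IsFinite (I.subschemeι ≫ f)] [IsAffine J.subscheme] (p : Spec (.of k)) :
    letI := (structAlg (J.subschemeι ≫ f)).toAlgebra
    (I.subschemeι ≫ f).finrank p = Module.finrank k
      (Γ(J.subscheme, ⊤) ⧸ (I.comap J.subschemeι).ideal ⟨⊤, isAffineOpen_top _⟩) := by
  set K := I.comap J.subschemeι
  obtain ⟨e, he⟩ : ∃ e : K.subscheme ≅ I.subscheme, K.subschemeι ≫ J.subschemeι = e.hom ≫ I.subschemeι :=
    exists_iso_comap_subscheme h
  set g := J.subschemeι ≫ f
  letI := (structAlg g).toAlgebra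
  haveI : IsFinite (K.subschemeι ≫ g) := inferInstance
  haveI : Flat (I.subschemeι ≫ f) := by
    haveI : IsAffine I.subscheme := isAffine_of_isAffineHom (I.subschemeι ≫ f)
    have : (structAlg (I.subschemeι ≫ f)).Flat := by
      letI := (structAlg (I.subschemeι ≫ f)).toAlgebra
      exact RingHom.flat_algebraMap_iff.2 (inferInstanceAs (Module.Flat k Γ(I.subscheme, ⊤)))
    rw [HasRingHomProperty.iff_of_isAffine (P := @Flat)]
    exact (RingHom.Flat.respectsIso.cancel_left_isIso _ _).mp this
  have h1 : (I.subschemeι ≫ f).finrank p = (K.subschemeι ≫ g).finrank p := by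
    rw [show K.subschemeι ≫ g = e.hom ≫ (I.subschemeι ≫ f) from by rw [← Category.assoc e.hom, ← he, Category.assoc],
      Scheme.Hom.finrank_comp_left_of_isIso e.hom (I.subschemeι ≫ f)]
  rw [h1, finrank_eq_finrank_global]
  let V : J.subscheme.affineOpens := ⟨⊤, isAffineOpen_top _⟩
  let E : Γ(K.subscheme, ⊤) ≃+* Γ(J.subscheme, ⊤) ⧸ K.ideal V := (K.subschemeObjIso V).commRingCatIsoToRingEquiv
  letI := (structAlg (K.subschemeι ≫ g)).toAlgebra
  refine LinearEquiv.finrank_eq (AlgEquiv.ofRingEquiv (f := E) fun r => ?_).toLinearEquiv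
  show E ((K.subschemeι ≫ g).appTop ((Scheme.ΓSpecIso (.of k)).inv r)) =
    Ideal.Quotient.mk _ (g.appTop ((Scheme.ΓSpecIso (.of k)).inv r))
  apply E.symm.injective
  rw [RingEquiv.symm_apply_apply, Scheme.Hom.comp_appTop, CommRingCat.comp_apply]
  show (K.subschemeι.app V.1) _ = (CommRingCat.ofHom (Ideal.Quotient.mk (K.ideal V)) ≫ (K.subschemeObjIso V).inv) _
  rw [K.subschemeι_app]

set_option backward.isDefEq.respectTransparency false in
/-- Over a field, degrees of effective Cartier divisors add. -/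
theorem finrank_mul_field (f : X ⟶ Spec (.of k)) {I₁ I₂ : X.IdealSheafData}
    (h₁ : _root_.BlowUp.IsEffCartierIdeal I₁) (h₂ : _root_.BlowUp.IsEffCartierIdeal I₂)
    [IsFinite ((I₁ * I₂).subschemeι ≫ f)] [IsFinite (I₁.subschemeι ≫ f)] [IsFinite (I₂.subschemeι ≫ f)]
    (p : Spec (.of k)) :
    ((I₁ * I₂).subschemeι ≫ f).finrank p =
      (I₁.subschemeι ≫ f).finrank p + (I₂.subschemeι ≫ f).finrank p := by
  set J := I₁ * I₂
  have hle₁ : J ≤ I₁ := fun U => Ideal.mul_le_left
  have hle₂ : J ≤ I₂ := fun U => Ideal.mul_le_right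
  set g := J.subschemeι ≫ f
  haveI : IsAffine J.subscheme := isAffine_of_isAffineHom g
  let T : J.subscheme.affineOpens := ⟨⊤, isAffineOpen_top _⟩
  letI := (structAlg g).toAlgebra
  haveI : Module.Finite k Γ(J.subscheme, ⊤) := finite_structAlg g
  haveI : IsArtinianRing Γ(J.subscheme, ⊤) := isArtinian_of_tower k inferInstance
  set K₁ := I₁.comap J.subschemeι
  set K₂ := I₂.comap J.subschemeι
  have hKJ : J.comap J.subschemeι = ⊥ := by
    obtain ⟨e, he⟩ := exists_iso_comap_subscheme (le_refl J)
    have : (J.comap J.subschemeι).subschemeι = e.hom := (cancel_mono J.subschemeι).1 he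
    rw [← (J.comap J.subschemeι).ker_subschemeι, this, Scheme.Hom.ker_eq_bot_of_isIso]
  have hmul : K₁.ideal T * K₂.ideal T = ⊥ := by
    have : K₁ * K₂ = ⊥ := by rw [← GrothLib.BlowUp.comap_mul]; exact hKJ
    have := congrArg (fun I : J.subscheme.IdealSheafData => I.ideal T) this
    simpa [Scheme.IdealSheafData.ideal_mul, Scheme.IdealSheafData.ideal_bot] using this
  obtain ⟨a, ha₁, ha₂⟩ := exists_generator_ann (K₁.ideal T) (K₂.ideal T) hmul (fun m hm => by
    let pt : PrimeSpectrum Γ(J.subscheme, ⊤) := ⟨m, hm.isPrime⟩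
    let y := (isAffineOpen_top J.subscheme).fromSpec pt
    have hy : (isAffineOpen_top J.subscheme).primeIdealOf ⟨y, trivial⟩ = pt :=
      (isAffineOpen_top J.subscheme).fromSpec.isOpenEmbedding.injective
        ((isAffineOpen_top J.subscheme).fromSpec_primeIdealOf ⟨y, trivial⟩)
    let S := J.subscheme.presheaf.stalk y
    letI : Algebra Γ(J.subscheme, ⊤) S := (J.subscheme.presheaf.germ ⊤ y trivial).hom.toAlgebra
    haveI : IsLocalization.AtPrime S m := by
      have := (isAffineOpen_top J.subscheme).isLocalization_stalk ⟨y, trivial⟩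
      rw [hy] at this
      exact this
    set x := J.subschemeι y
    obtain ⟨V₁, hxV₁, -, hC₁⟩ := GrothLib.BlowUp.exists_cartierOn_le h₁ (W := (⊤ : X.Opens)) (x := x) trivial
    obtain ⟨V, hxV, hVV₁, hC₂⟩ := GrothLib.BlowUp.exists_cartierOn_le h₂ (W := V₁.1) (x := x) hxV₁
    obtain ⟨c₁, hc₁, e₁⟩ := hC₁.mono hVV₁
    obtain ⟨c₂, -, e₂⟩ := hC₂
    let W : J.subscheme.affineOpens := ⟨J.subschemeι ⁻¹ᵁ V.1, V.2.preimage J.subschemeι⟩
    let π := (J.subschemeι.stalkMap y).hom
    have hπ : ∀ (I : X.IdealSheafData), ((I.comap J.subschemeι).ideal T).map (algebraMap _ S) =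
        ((I.ideal V).map (X.presheaf.germ V.1 x hxV).hom).map π := fun I => by
      show ((I.comap J.subschemeι).ideal T).map (J.subscheme.presheaf.germ ⊤ y trivial).hom = _
      rw [map_germ_eq (I.comap J.subschemeι) T W trivial hxV,
        GrothLib.BlowUp.ideal_comap_eq_map I J.subschemeι V W le_rfl, Ideal.map_map, Ideal.map_map]
      congr 1
      rw [← CommRingCat.hom_comp, ← CommRingCat.hom_comp, Scheme.Hom.germ_stalkMap, Scheme.Hom.app_eq_appLE]
    let γ₁ := X.presheaf.germ V.1 x hxV c₁
    let γ₂ := X.presheaf.germ V.1 x hxV c₂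
    have hγ₁ : γ₁ ∈ nonZeroDivisors _ := GrothLib.BlowUp.germ_mem_nonZeroDivisors hc₁ hxV
    have hS₁ : (K₁.ideal T).map (algebraMap _ S) = Ideal.span {π γ₁} := by
      rw [hπ, e₁, Ideal.map_span, Set.image_singleton, Ideal.map_span, Set.image_singleton]
    have hS₂ : (K₂.ideal T).map (algebraMap _ S) = Ideal.span {π γ₂} := by
      rw [hπ, e₂, Ideal.map_span, Set.image_singleton, Ideal.map_span, Set.image_singleton]
    have hker : RingHom.ker π = Ideal.span {γ₁ * γ₂} := by
      rw [GrothLib.BlowUp.ker_stalkMap_subschemeι J y V hxV]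
      simp [J, Scheme.IdealSheafData.ideal_mul, e₁, e₂, Ideal.span_singleton_mul_span_singleton,
        Ideal.map_span, γ₁, γ₂, x]
    -- a global section generating at `y`
    obtain ⟨⟨⟨b, hbK⟩, s⟩, hbs⟩ := (IsLocalization.mem_map_algebraMap_iff m.primeCompl S).1
      (hS₁.ge (Ideal.mem_span_singleton_self (π γ₁)))
    have hgen : (K₁.ideal T).map (algebraMap _ S) = Ideal.span {algebraMap _ S b} := by
      rw [hS₁, ← hbs, Ideal.span_singleton_mul_right_unit (IsLocalization.map_units S s)]
    refine ⟨b, hbK, ?_, fun z hz => ?_⟩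
    · let E := IsLocalization.algEquiv m.primeCompl S (Localization.AtPrime m)
      have := congrArg (Ideal.map (E : S →+* Localization.AtPrime m)) hgen
      rw [Ideal.map_map, Ideal.map_span, Set.image_singleton,
        show (E : S →+* Localization.AtPrime m).comp (algebraMap _ S) = algebraMap _ _ from
          RingHom.ext fun r => E.commutes r] at this
      simpa using this
    · let E := IsLocalization.algEquiv m.primeCompl (Localization.AtPrime m) S
      have h0 : E z * (π γ₁ * algebraMap _ S (s : Γ(J.subscheme, ⊤))) = 0 := by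
        have := congrArg E hz
        rw [map_mul, AlgEquiv.commutes, map_zero] at this
        rwa [hbs]
      rw [← mul_assoc, (IsLocalization.map_units S s).mul_left_eq_zero] at h0
      obtain ⟨z', hz'⟩ := J.subschemeι.stalkMap_surjective y (E z)
      rw [← hz'] at h0
      have hz2 : π (z' * γ₁) = 0 := by rw [map_mul]; exact h0
      obtain ⟨d, hd⟩ := Ideal.mem_span_singleton'.1 (hker.le (RingHom.mem_ker.2 hz2))
      have hz3 : z' = d * γ₂ := (mul_cancel_right_mem_nonZeroDivisors hγ₁).1 (by rw [← hd]; ring)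
      have hmem : E z ∈ (K₂.ideal T).map (algebraMap _ S) := by
        rw [hS₂, ← hz', hz3]
        exact Ideal.mem_span_singleton'.2 ⟨π d, (map_mul π _ _).symm⟩
      have := Ideal.mem_map_of_mem (E.symm : S →+* Localization.AtPrime m) hmem
      rw [Ideal.map_map, show (E.symm : S →+* Localization.AtPrime m).comp (algebraMap _ S) = algebraMap _ _ from
          RingHom.ext fun r => E.symm.commutes r] at this
      simpa using this)
  have hB := finrank_eq_add (k := k) ha₁ ha₂
  rw [finrank_eq_finrank_global, finrank_comap hle₁ f, finrank_comap hle₂ f]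
  exact hB

end GrothLib.RelDiv
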