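import Groth.Agent.Lib.RelDiv.Smooth
import Groth.Agent.Lib.RelDiv.Degree
import Groth.Agent.Lib.AffUnion.Basic
import Groth.Prelude.Def_Mor2
import Mathlib.RingTheory.Localization.Finiteness
import Mathlib.RingTheory.Ideal.Colon
import Mathlib.AlgebraicGeometry.Morphisms.Proper

/-!
# Sums and differences of relative divisors on smooth curves
-/

universe u

open CategoryTheory CategoryTheory.Limits AlgebraicGeometry Opposite

namespace GrothLib.RelDiv

open GrothLib.BlowUp (CartierOn exists_affine_mem_le exists_cartierOn_le)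

variable {X Y S : Scheme.{u}}

/-- A morphism with a closed cover by two finite pieces is finite. -/
theorem isFinite_of_cover {Z₁ Z₂ : Scheme.{u}} (g : Y ⟶ S) [LocallyOfFiniteType g] (i₁ : Z₁ ⟶ Y)
    (i₂ : Z₂ ⟶ Y) [IsClosedImmersion i₁] [IsClosedImmersion i₂] [IsFinite (i₁ ≫ g)] [IsFinite (i₂ ≫ g)]
    (h : Set.range i₁ ∪ Set.range i₂ = Set.univ) : IsFinite g := by
  have haff : IsAffineHom g := ⟨fun U hU => by
    let W := g ⁻¹ᵁ U
    haveI : IsAffine ((i₁ ⁻¹ᵁ W : Z₁.Opens) : Scheme.{u}) := hU.preimage (i₁ ≫ g)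
    haveI : IsAffine ((i₂ ⁻¹ᵁ W : Z₂.Opens) : Scheme.{u}) := hU.preimage (i₂ ≫ g)
    refine GrothLib.AffUnion.isAffine_of_cover (i₁ ∣_ W) (i₂ ∣_ W) (Set.eq_univ_of_forall fun y => ?_)
    have hy : W.ι y ∈ Set.range i₁ ∪ Set.range i₂ := by rw [h]; trivial
    rcases hy with ⟨z, hz⟩ | ⟨z, hz⟩
    · refine Or.inl ⟨⟨z, show i₁ z ∈ W by rw [hz]; exact y.2⟩, ?_⟩
      apply W.ι.isOpenEmbedding.injective
      refine Eq.trans ?_ hz
      rw [← Scheme.Hom.comp_apply, morphismRestrict_ι]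
      rfl
    · refine Or.inr ⟨⟨z, show i₂ z ∈ W by rw [hz]; exact y.2⟩, ?_⟩
      apply W.ι.isOpenEmbedding.injective
      refine Eq.trans ?_ hz
      rw [← Scheme.Hom.comp_apply, morphismRestrict_ι]
      rfl⟩
  have huc : UniversallyClosed g := ⟨fun X' Y' fst snd' snd H C hC => by
    let p₁ := pullback.fst fst i₁
    let p₂ := pullback.fst fst i₂
    have h1 : IsClosedMap (p₁ ≫ snd) := UniversallyClosed.universally_isClosedMap (f := i₁ ≫ g)
      _ _ _ ((IsPullback.of_hasPullback fst i₁).paste_horiz H)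
    have h2 : IsClosedMap (p₂ ≫ snd) := UniversallyClosed.universally_isClosedMap (f := i₂ ≫ g)
      _ _ _ ((IsPullback.of_hasPullback fst i₂).paste_horiz H)
    have e : snd '' C = (p₁ ≫ snd) '' (p₁ ⁻¹' C) ∪ (p₂ ≫ snd) '' (p₂ ⁻¹' C) := by
      ext y
      constructor
      · rintro ⟨c, hc, rfl⟩
        have : fst c ∈ Set.range i₁ ∪ Set.range i₂ := by rw [h]; trivial
        rcases this with ⟨z, hz⟩ | ⟨z, hz⟩
        · obtain ⟨w, hw, -⟩ := Scheme.Pullback.exists_preimage_pullback (f := fst) (g := i₁) c z hz.symm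
          exact Or.inl ⟨w, show p₁ w ∈ C by rw [hw]; exact hc, by rw [Scheme.Hom.comp_apply, hw]⟩
        · obtain ⟨w, hw, -⟩ := Scheme.Pullback.exists_preimage_pullback (f := fst) (g := i₂) c z hz.symm
          exact Or.inr ⟨w, show p₂ w ∈ C by rw [hw]; exact hc, by rw [Scheme.Hom.comp_apply, hw]⟩
      · rintro (⟨w, hw, rfl⟩ | ⟨w, hw, rfl⟩)
        · exact ⟨p₁ w, hw, (Scheme.Hom.comp_apply _ _ _).symm⟩
        · exact ⟨p₂ w, hw, (Scheme.Hom.comp_apply _ _ _).symm⟩
    rw [e]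
    exact (h1 _ (hC.preimage p₁.continuous)).union (h2 _ (hC.preimage p₂.continuous))⟩
  exact (IsFinite.iff_isIntegralHom_and_locallyOfFiniteType g).2
    ⟨IsIntegralHom.iff_universallyClosed_and_isAffineHom.2 ⟨huc, haff⟩, inferInstance⟩

variable (f : X ⟶ S) [SmoothOfRelativeDimension 1 f]

theorem isEffCartierIdeal_of_isFinLocFree {I : X.IdealSheafData} (h : Mor2.IsFinLocFree (I.subschemeι ≫ f)) :
    _root_.BlowUp.IsEffCartierIdeal I := by
  obtain ⟨h1, h2, h3⟩ := h
  exact isEffCartierIdeal_of_quasiFinite f I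

/-- The sum of two finite locally free divisors is finite. -/
theorem isFinite_mul {I₁ I₂ : X.IdealSheafData} (h₁ : Mor2.IsFinLocFree (I₁.subschemeι ≫ f))
    (h₂ : Mor2.IsFinLocFree (I₂.subschemeι ≫ f)) : IsFinite ((I₁ * I₂).subschemeι ≫ f) := by
  haveI := SmoothOfRelativeDimension.smooth 1 f
  have hle₁ : I₁ * I₂ ≤ I₁ := fun U => Ideal.mul_le_left
  have hle₂ : I₁ * I₂ ≤ I₂ := fun U => Ideal.mul_le_right
  let j₁ := Scheme.IdealSheafData.inclusion hle₁
  let j₂ := Scheme.IdealSheafData.inclusion hle₂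
  have e₁ : j₁ ≫ (I₁ * I₂).subschemeι = I₁.subschemeι := Scheme.IdealSheafData.inclusion_subschemeι _
  have e₂ : j₂ ≫ (I₁ * I₂).subschemeι = I₂.subschemeι := Scheme.IdealSheafData.inclusion_subschemeι _
  haveI : IsClosedImmersion (j₁ ≫ (I₁ * I₂).subschemeι) := e₁ ▸ inferInstance
  haveI : IsClosedImmersion (j₂ ≫ (I₁ * I₂).subschemeι) := e₂ ▸ inferInstance
  haveI : IsClosedImmersion j₁ := IsClosedImmersion.of_comp _ (I₁ * I₂).subschemeι
  haveI : IsClosedImmersion j₂ := IsClosedImmersion.of_comp _ (I₁ * I₂).subschemeι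
  haveI : IsFinite (j₁ ≫ (I₁ * I₂).subschemeι ≫ f) := by rw [reassoc_of% e₁]; exact h₁.1
  haveI : IsFinite (j₂ ≫ (I₁ * I₂).subschemeι ≫ f) := by rw [reassoc_of% e₂]; exact h₂.1
  refine isFinite_of_cover _ j₁ j₂ (Set.eq_univ_of_forall fun y => ?_)
  have hy : (I₁ * I₂).subschemeι y ∈ (I₁ * I₂).support := by
    rw [← SetLike.mem_coe, ← Scheme.IdealSheafData.range_subschemeι]; exact ⟨y, rfl⟩
  rw [Scheme.IdealSheafData.support_mul] at hy
  rcases hy with h | h <;> rw [← Scheme.IdealSheafData.range_subschemeι] at h <;> obtain ⟨z, hz⟩ := h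
  · exact Or.inl ⟨z, (I₁ * I₂).subschemeι.isClosedEmbedding.injective (by rw [← Scheme.Hom.comp_apply, e₁, hz])⟩
  · exact Or.inr ⟨z, (I₁ * I₂).subschemeι.isClosedEmbedding.injective (by rw [← Scheme.Hom.comp_apply, e₂, hz])⟩

theorem isFinLocFree_mul {I₁ I₂ : X.IdealSheafData} (h₁ : Mor2.IsFinLocFree (I₁.subschemeι ≫ f))
    (h₂ : Mor2.IsFinLocFree (I₂.subschemeι ≫ f)) : Mor2.IsFinLocFree ((I₁ * I₂).subschemeι ≫ f) := by
  haveI := SmoothOfRelativeDimension.smooth 1 f
  have c₁ := isEffCartierIdeal_of_isFinLocFree f h₁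
  have c₂ := isEffCartierIdeal_of_isFinLocFree f h₂
  haveI := h₁.2.1
  haveI := h₂.2.1
  exact ⟨isFinite_mul f h₁ h₂, GrothLib.BlowUp.relEffCartier_mul c₁ c₂,
    locallyOfFinitePresentation_of_isEffCartier f (GrothLib.BlowUp.isEffCartierIdeal_mul c₁ c₂)⟩

set_option backward.isDefEq.respectTransparency false in
/-- The restriction of a divisor to a fibre. -/
theorem isPullback_fibre_comap (I : X.IdealSheafData) (s : S) :
    IsPullback ((I.comapIso (f.fiberι s)).hom ≫ pullback.snd _ _)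
      ((I.comap (f.fiberι s)).subschemeι ≫ f.fiberToSpecResidueField s)
      (I.subschemeι ≫ f) (S.fromSpecResidueField s) := by
  refine IsPullback.paste_vert ?_ (IsPullback.of_hasPullback f (S.fromSpecResidueField s))
  exact IsPullback.of_iso_pullback ⟨by rw [Category.assoc, ← pullback.condition,
      Scheme.IdealSheafData.comapIso_hom_fst_assoc]; rfl⟩
    (I.comapIso (f.fiberι s) ≪≫ pullbackSymmetry _ _)
    (by rw [Iso.trans_hom, Category.assoc]; erw [pullbackSymmetry_hom_comp_fst])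
    (by rw [Iso.trans_hom, Category.assoc]; erw [pullbackSymmetry_hom_comp_snd]; exact I.comapIso_hom_fst _)

set_option backward.isDefEq.respectTransparency false in
theorem finrank_mul {I₁ I₂ : X.IdealSheafData} (h₁ : Mor2.IsFinLocFree (I₁.subschemeι ≫ f))
    (h₂ : Mor2.IsFinLocFree (I₂.subschemeι ≫ f)) (s : S) :
    ((I₁ * I₂).subschemeι ≫ f).finrank s =
      (I₁.subschemeι ≫ f).finrank s + (I₂.subschemeι ≫ f).finrank s := by
  have h := isFinLocFree_mul f h₁ h₂
  haveI := h₁.1; haveI := h₂.1; haveI := h.1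
  haveI := h₁.2.1; haveI := h₂.2.1; haveI := h.2.1
  haveI := h₁.2.2; haveI := h₂.2.2
  let g : f.fiber s ⟶ Spec (S.residueField s) := f.fiberToSpecResidueField s
  haveI : SmoothOfRelativeDimension 1 g :=
    (smoothOfRelativeDimension_isStableUnderBaseChange 1).of_isPullback (IsPullback.of_hasPullback f (S.fromSpecResidueField s)) inferInstance
  have P := fun I => isPullback_fibre_comap f I s
  set J₁ := I₁.comap (f.fiberι s)
  set J₂ := I₂.comap (f.fiberι s)
  haveI : IsFinite (J₁.subschemeι ≫ g) := MorphismProperty.of_isPullback (P I₁) h₁.1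
  haveI : IsFinite (J₂.subschemeι ≫ g) := MorphismProperty.of_isPullback (P I₂) h₂.1
  haveI : Flat (J₁.subschemeι ≫ g) := MorphismProperty.of_isPullback (P I₁) h₁.2.1
  haveI : Flat (J₂.subschemeι ≫ g) := MorphismProperty.of_isPullback (P I₂) h₂.2.1
  haveI : LocallyOfFinitePresentation (J₁.subschemeι ≫ g) := MorphismProperty.of_isPullback (P I₁) h₁.2.2
  haveI : LocallyOfFinitePresentation (J₂.subschemeι ≫ g) := MorphismProperty.of_isPullback (P I₂) h₂.2.2
  haveI : IsFinite ((J₁ * J₂).subschemeι ≫ g) := by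
    have := P (I₁ * I₂)
    have h' : IsFinite (((I₁ * I₂).comap (f.fiberι s)).subschemeι ≫ g) := MorphismProperty.of_isPullback this h.1
    rwa [GrothLib.BlowUp.comap_mul] at h'
  let p : Spec (S.residueField s) := IsLocalRing.closedPoint _
  have hp : S.fromSpecResidueField s p = s := Scheme.fromSpecResidueField_apply _ _
  have key := finrank_mul_field (k := S.residueField s) g (isEffCartierIdeal_of_quasiFinite g J₁)
    (isEffCartierIdeal_of_quasiFinite g J₂) p
  have hJ : ((J₁ * J₂).subschemeι ≫ g).finrank p =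
      (((I₁ * I₂).comap (f.fiberι s)).subschemeι ≫ g).finrank p := by rw [GrothLib.BlowUp.comap_mul]
  rw [hJ, Scheme.Hom.finrank_of_isPullback _ _ _ _ (P (I₁ * I₂)), Scheme.Hom.finrank_of_isPullback _ _ _ _ (P I₁),
    Scheme.Hom.finrank_of_isPullback _ _ _ _ (P I₂), hp] at key
  exact key

theorem isFinLocFreeOfDeg_mul {I₁ I₂ : X.IdealSheafData} {d₁ d₂ : ℕ}
    (h₁ : Mor2.IsFinLocFreeOfDeg d₁ (I₁.subschemeι ≫ f)) (h₂ : Mor2.IsFinLocFreeOfDeg d₂ (I₂.subschemeι ≫ f)) :
    Mor2.IsFinLocFreeOfDeg (d₁ + d₂) ((I₁ * I₂).subschemeι ≫ f) :=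
  ⟨isFinLocFree_mul f h₁.1 h₂.1, fun y => by rw [finrank_mul f h₁.1 h₂.1 y, h₁.2 y, h₂.2 y]⟩

omit [SmoothOfRelativeDimension 1 f] in
theorem fg_ideal_of_isEffCartier {I : X.IdealSheafData} (hI : _root_.BlowUp.IsEffCartierIdeal I)
    (U : X.affineOpens) : (I.ideal U).FG := by
  let s : Set Γ(X, U.1) := {g | (I.ideal (X.affineBasicOpen g)).FG}
  refine Ideal.fg_of_localizationSpan s ?_ fun g => ?_
  · rw [← U.2.self_le_iSup_basicOpen_iff]
    intro x hx
    obtain ⟨V, hxV, hVU, c, -, hc⟩ := exists_cartierOn_le hI (W := U.1) (x := x) hx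
    obtain ⟨g, g', hgg, hxg⟩ := exists_basicOpen_le_affine_inter U.2 V.2 x ⟨hx, hxV⟩
    refine TopologicalSpace.Opens.mem_iSup.2 ⟨⟨g, ?_⟩, hxg⟩
    have hle : (X.affineBasicOpen g).1 ≤ V.1 := (show X.basicOpen g ≤ V.1 from hgg ▸ X.basicOpen_le g')
    show (I.ideal (X.affineBasicOpen g)).FG
    rw [← I.map_ideal (U := X.affineBasicOpen g) (V := V) hle]
    exact Ideal.FG.map (hc ▸ ⟨{c}, by simp⟩) _
  · letI : Algebra Γ(X, U.1) Γ(X, (X.affineBasicOpen g.1).1) :=
      (X.presheaf.map (homOfLE (X.basicOpen_le g.1)).op).hom.toAlgebra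
    haveI : IsLocalization.Away g.1 Γ(X, (X.affineBasicOpen g.1).1) := U.2.isLocalization_basicOpen g.1
    let e := IsLocalization.algEquiv (Submonoid.powers g.1) Γ(X, (X.affineBasicOpen g.1).1) (Localization.Away g.1)
    have hg : ((I.ideal U).map (algebraMap Γ(X, U.1) Γ(X, (X.affineBasicOpen g.1).1))).FG := by
      show ((I.ideal U).map (X.presheaf.map (homOfLE (X.basicOpen_le g.1)).op).hom).FG
      erw [I.map_ideal (U := X.affineBasicOpen g.1) (V := U) (X.basicOpen_le g.1)]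
      exact g.2
    have := hg.map (e : Γ(X, (X.affineBasicOpen g.1).1) →+* Localization.Away g.1)
    rwa [Ideal.map_map, show (e : Γ(X, (X.affineBasicOpen g.1).1) →+* Localization.Away g.1).comp
      (algebraMap Γ(X, U.1) _) = algebraMap _ _ from RingHom.ext fun r => e.commutes r] at this

/-- The residual ideal of `I` by a finitely generated `J`. -/
noncomputable def residual (I J : X.IdealSheafData) (hJ : ∀ U, (J.ideal U).FG) : X.IdealSheafData where
  ideal U := (I.ideal U).colon (J.ideal U : Set Γ(X, U.1))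
  map_ideal_basicOpen U g := by
    letI : Algebra Γ(X, U.1) Γ(X, X.basicOpen g) := (X.presheaf.map (homOfLE (X.basicOpen_le g)).op).hom.toAlgebra
    haveI : IsLocalization.Away g Γ(X, X.basicOpen g) := U.2.isLocalization_basicOpen g
    let I' : Ideal Γ(X, X.basicOpen g) := I.ideal (X.affineBasicOpen g)
    let J' : Ideal Γ(X, X.basicOpen g) := J.ideal (X.affineBasicOpen g)
    show Ideal.map (algebraMap Γ(X, U.1) Γ(X, X.basicOpen g)) _ = I'.colon (J' : Set Γ(X, X.basicOpen g))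
    have eI : I' = (I.ideal U).map (algebraMap Γ(X, U.1) Γ(X, X.basicOpen g)) :=
      (I.map_ideal_basicOpen U g).symm
    have eJ : J' = (J.ideal U).map (algebraMap Γ(X, U.1) Γ(X, X.basicOpen g)) :=
      (J.map_ideal_basicOpen U g).symm
    refine le_antisymm (Ideal.map_le_iff_le_comap.2 fun r hr => ?_) fun z hz => ?_
    · rw [Ideal.mem_comap, Submodule.mem_colon]
      intro y hy
      rw [SetLike.mem_coe, eJ] at hy
      rw [eI, smul_eq_mul]
      have h := Ideal.mul_mem_mul (Ideal.mem_map_of_mem (algebraMap Γ(X, U.1) Γ(X, X.basicOpen g)) hr) hy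
      rw [← Ideal.map_mul] at h
      refine Ideal.map_mono ?_ h
      exact Ideal.mul_le.2 fun a ha b hb => Submodule.mem_colon.1 ha b hb
    · obtain ⟨r, t, rfl⟩ := IsLocalization.exists_mk'_eq (Submonoid.powers g) z
      rw [Submodule.mem_colon] at hz
      classical
      obtain ⟨G, hG⟩ := hJ U
      have h1 : ∀ γ ∈ G, ∃ m ∈ Submonoid.powers g, m * (r * γ) ∈ I.ideal U := fun γ hγ => by
        rw [← IsLocalization.algebraMap_mem_map_algebraMap_iff (Submonoid.powers g) Γ(X, X.basicOpen g)]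
        have := hz (algebraMap _ Γ(X, X.basicOpen g) γ) (by
          rw [SetLike.mem_coe, eJ]; exact Ideal.mem_map_of_mem _ (hG ▸ Ideal.subset_span hγ))
        rw [smul_eq_mul, eI] at this
        have := Ideal.mul_mem_left _ (algebraMap Γ(X, U.1) Γ(X, X.basicOpen g) t) this
        rwa [← mul_assoc, IsLocalization.mk'_spec', ← map_mul] at this
      choose! m hm hmI using h1
      rw [IsLocalization.mk'_mem_map_algebraMap_iff]
      refine ⟨∏ γ ∈ G, m γ, prod_mem hm, Submodule.mem_colon.2 fun y hy => ?_⟩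
      rw [smul_eq_mul]
      have hy' : y ∈ Ideal.span (G : Set Γ(X, U.1)) := hG.ge hy
      induction hy' using Submodule.span_induction with
      | mem γ hγ =>
        obtain ⟨c, hc⟩ := Finset.dvd_prod_of_mem m hγ
        rw [hc, show m γ * c * r * γ = c * (m γ * (r * γ)) by ring]
        exact Ideal.mul_mem_left _ _ (hmI γ hγ)
      | zero => simp
      | add a b ha hb iha ihb => rw [mul_add]; exact add_mem (iha (hG ▸ ha)) (ihb (hG ▸ hb))
      | smul a b hb ihb => rw [smul_eq_mul, mul_left_comm]; exact Ideal.mul_mem_left _ _ (ihb (hG ▸ hb))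

omit [SmoothOfRelativeDimension 1 f] in
/-- An effective Cartier divisor containing another one is their sum with the residual one. -/
theorem exists_eq_mul {I₁ I₂ : X.IdealSheafData} (h₁ : _root_.BlowUp.IsEffCartierIdeal I₁)
    (h₂ : _root_.BlowUp.IsEffCartierIdeal I₂) (hle : I₂ ≤ I₁) :
    ∃ I : X.IdealSheafData, _root_.BlowUp.IsEffCartierIdeal I ∧ I₂ = I₁ * I := by
  refine ⟨residual I₂ I₁ (fg_ideal_of_isEffCartier h₁), ?_⟩
  set I := residual I₂ I₁ (fg_ideal_of_isEffCartier h₁)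
  have main : ∀ x : X, ∃ V : X.affineOpens, x ∈ V.1 ∧ CartierOn I V ∧ I₂.ideal V = I₁.ideal V * I.ideal V := by
    intro x
    obtain ⟨V₁, hxV₁, -, hC₁⟩ := exists_cartierOn_le h₁ (W := (⊤ : X.Opens)) (x := x) trivial
    obtain ⟨V, hxV, hVV, b, hb, eb⟩ := exists_cartierOn_le h₂ (W := V₁.1) (x := x) hxV₁
    obtain ⟨a, ha, ea⟩ := hC₁.mono hVV
    obtain ⟨c, hc⟩ : a ∣ b := Ideal.mem_span_singleton.1 (ea.le (hle V (eb.ge (Ideal.mem_span_singleton_self b))))
    have hI : I.ideal V = Ideal.span {c} := by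
      show (I₂.ideal V).colon (I₁.ideal V : Set Γ(X, V.1)) = _
      ext z
      rw [Submodule.mem_colon, ea, eb]
      simp only [SetLike.mem_coe, Ideal.mem_span_singleton, smul_eq_mul]
      constructor
      · intro h
        obtain ⟨d, hd⟩ := h a dvd_rfl
        exact ⟨d, (mul_cancel_right_mem_nonZeroDivisors ha).1 (by rw [hd, hc]; ring)⟩
      · rintro ⟨d, rfl⟩ y ⟨e, rfl⟩
        exact ⟨d * e, by rw [hc]; ring⟩
    refine ⟨V, hxV, ⟨c, (mul_mem_nonZeroDivisors.1 (hc ▸ hb)).2, hI⟩, ?_⟩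
    rw [ea, eb, hI, Ideal.span_singleton_mul_span_singleton, hc]
  choose V hxV hC hmul using main
  exact ⟨fun x => ⟨V x, hxV x, hC x⟩, Scheme.IdealSheafData.ext_of_iSup_eq_top V
    (top_unique fun x _ => TopologicalSpace.Opens.mem_iSup.2 ⟨x, hxV x⟩) fun x => by
      rw [Scheme.IdealSheafData.ideal_mul]; exact hmul x⟩

theorem exists_difference {I₁ I₂ : X.IdealSheafData} (hle : I₂ ≤ I₁) {d₁ d₂ : ℕ}
    (h₁ : Mor2.IsFinLocFreeOfDeg d₁ (I₁.subschemeι ≫ f)) (h₂ : Mor2.IsFinLocFreeOfDeg d₂ (I₂.subschemeι ≫ f)) :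
    ∃ I : X.IdealSheafData, Mor2.IsFinLocFreeOfDeg (d₂ - d₁) (I.subschemeι ≫ f) ∧ I₂ = I₁ * I := by
  haveI := SmoothOfRelativeDimension.smooth 1 f
  have c₁ := isEffCartierIdeal_of_isFinLocFree f h₁.1
  obtain ⟨I, hI, rfl⟩ := exists_eq_mul c₁ (isEffCartierIdeal_of_isFinLocFree f h₂.1) hle
  haveI := h₁.1.2.1
  haveI := h₂.1.1
  haveI := h₂.1.2.1
  have hleI : I₁ * I ≤ I := fun U => Ideal.mul_le_right
  let j := Scheme.IdealSheafData.inclusion hleI
  have ej : j ≫ (I₁ * I).subschemeι = I.subschemeι := Scheme.IdealSheafData.inclusion_subschemeι _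
  haveI : IsClosedImmersion (j ≫ (I₁ * I).subschemeι) := ej ▸ inferInstance
  haveI : IsClosedImmersion j := IsClosedImmersion.of_comp _ (I₁ * I).subschemeι
  have hfin : IsFinite (I.subschemeι ≫ f) := by rw [← reassoc_of% ej]; infer_instance
  have hflf : Mor2.IsFinLocFree (I.subschemeι ≫ f) :=
    ⟨hfin, GrothLib.BlowUp.relEffCartier_difference c₁ hI, locallyOfFinitePresentation_of_isEffCartier f hI⟩
  refine ⟨I, ⟨hflf, fun y => ?_⟩, rfl⟩
  have := finrank_mul f h₁.1 hflf y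
  rw [h₂.2 y, h₁.2 y] at this
  omega

end GrothLib.RelDiv
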