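import Mathlib.RingTheory.Flat.EquationalCriterion
import Mathlib.RingTheory.Artinian.Ring
import Mathlib.RingTheory.LocalRing.ResidueField.Basic
import Mathlib.RingTheory.IntegralClosure.IsIntegralClosure.Basic
import Mathlib.RingTheory.Polynomial.Quotient
import Mathlib.LinearAlgebra.TensorProduct.Quotient
import Mathlib.RingTheory.PrincipalIdealDomain
import Mathlib.Algebra.Polynomial.FieldDivision
import Mathlib.RingTheory.Regular.IsSMulRegular
import Mathlib.RingTheory.Nakayama
import Mathlib.RingTheory.Filtration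
import Mathlib.RingTheory.RingHom.Flat

/-!
# Relative effective Cartier divisors on smooth curves: local algebra
-/

universe u

namespace GrothLib.RelDiv

open IsLocalRing Polynomial TensorProduct

variable {R L : Type u} [CommRing R] [CommRing L] [Algebra R L]

/-- If `L/J` is flat, `J ∩ I L = I J`. -/
theorem inf_map_le_mul (I : Ideal R) (J : Ideal L) [Module.Flat R (L ⧸ J)] :
    J ⊓ I.map (algebraMap R L) ≤ I.map (algebraMap R L) * J := by
  rintro x ⟨hxJ, hxI⟩
  have hxI' : x ∈ (I • ⊤ : Submodule R L) := by rw [Ideal.smul_top_eq_map]; exact hxI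
  obtain ⟨n, f, o, rfl, hf⟩ : ∃ (n : ℕ) (f : Fin n → R) (o : Fin n → L), x = ∑ i, f i • o i ∧ ∀ i, f i ∈ I := by
    clear hxI hxJ
    refine Submodule.smul_induction_on hxI' (fun r hr y _ => ?_) ?_
    · exact ⟨1, fun _ => r, fun _ => y, by simp, fun _ => hr⟩
    · rintro _ _ ⟨n, f, o, rfl, hf⟩ ⟨m, f', o', rfl, hf'⟩
      refine ⟨n + m, Fin.append f f', Fin.append o o', by simp [Fin.sum_univ_add], fun i => ?_⟩
      refine Fin.addCases (fun i => ?_) (fun i => ?_) i
      · simpa using hf i
      · simpa using hf' i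
  have h0 : ∑ i, f i • Ideal.Quotient.mk J (o i) = 0 := by
    rw [← Ideal.Quotient.eq_zero_iff_mem.mpr hxJ, map_sum]
    simp [Algebra.smul_def]
  obtain ⟨k, a, y, hy, ha⟩ := Module.Flat.isTrivialRelation_of_sum_smul_eq_zero h0
  choose yl hyl using fun j => Ideal.Quotient.mk_surjective (y j)
  have hd : ∀ i, o i - ∑ j, a i j • yl j ∈ J := fun i => by
    rw [← Ideal.Quotient.eq, map_sum, show Ideal.Quotient.mk J (o i) = _ from hy i]
    simp [Algebra.smul_def, hyl]
  have e : ∑ i, f i • o i = ∑ i, algebraMap R L (f i) * (o i - ∑ j, a i j • yl j) := by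
    simp only [mul_sub, Finset.sum_sub_distrib, ← Algebra.smul_def, Finset.smul_sum, smul_smul]
    rw [Finset.sum_comm (f := fun i j => (f i * a i j) • yl j)]
    simp [← Finset.sum_smul, ha]
  rw [e]
  exact sum_mem fun i _ => Ideal.mul_mem_mul (Ideal.mem_map_of_mem _ (hf i)) (hd i)

/-- A non-zero ideal in a local ring with principal maximal ideal, containing a power of its generator. -/
theorem exists_eq_span_pow [IsLocalRing L] {π : L} (hm : maximalIdeal L = Ideal.span {π})
    {J : Ideal L} {N : ℕ} (hN : π ^ N ∈ J) : ∃ n, J = Ideal.span {π ^ n} := by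
  classical
  have hex : ∃ n, π ^ n ∈ J := ⟨N, hN⟩
  refine ⟨Nat.find hex, le_antisymm (fun y hy => ?_) ((Ideal.span_singleton_le_iff_mem _).2 (Nat.find_spec hex))⟩
  rw [Ideal.mem_span_singleton]
  suffices ∀ j ≤ Nat.find hex, π ^ j ∣ y from this _ le_rfl
  intro j
  induction j with
  | zero => simp
  | succ j ih =>
    intro hj
    obtain ⟨c, hc⟩ := ih (Nat.le_of_succ_le hj)
    by_cases hu : IsUnit c
    · exact absurd ((Ideal.mul_unit_mem_iff_mem J hu).1 (hc ▸ hy)) (Nat.find_min hex hj)
    · have : c ∈ maximalIdeal L := hu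
      rw [hm, Ideal.mem_span_singleton] at this
      obtain ⟨d, rfl⟩ := this
      exact ⟨d, by rw [hc]; ring⟩

/-- The extension of the maximal ideal of the base. -/
abbrev fibreIdeal (R L : Type u) [CommRing R] [CommRing L] [Algebra R L] [IsLocalRing R] : Ideal L :=
  (maximalIdeal R).map (algebraMap R L)

variable [IsLocalRing R] [IsLocalRing L] [IsLocalHom (algebraMap R L)]

theorem fibreIdeal_le : fibreIdeal R L ≤ maximalIdeal L :=
  Ideal.map_le_iff_le_comap.2 fun x hx => by
    simpa [mem_maximalIdeal, mem_nonunits_iff] using fun h => hx (isUnit_of_map_unit (algebraMap R L) x h)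

/-- Either the fibre of a line chart is a field, or its maximal ideal is generated by one regular element. -/
theorem exists_uniformizer (a : L) (hflat : (Polynomial.aeval (R := R) a).toRingHom.Flat)
    (hm : maximalIdeal L ≤
      ((maximalIdeal L).comap (Polynomial.aeval (R := R) a).toRingHom).map (Polynomial.aeval (R := R) a).toRingHom) :
    (maximalIdeal L = fibreIdeal R L ∧
      ¬ ∃ F : R[X], F.map (residue R) ≠ 0 ∧ Polynomial.aeval a F ∈ maximalIdeal L) ∨
    ∃ π, IsSMulRegular (L ⧸ fibreIdeal R L) π ∧ π ∈ maximalIdeal L ∧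
      maximalIdeal L = Ideal.span {π} ⊔ fibreIdeal R L := by
  set ψ := (Polynomial.aeval (R := R) a).toRingHom with hψ
  set K := fibreIdeal R L
  set P := (maximalIdeal L).comap ψ
  let res := mapRingHom (residue R)
  have hres : Function.Surjective res := Polynomial.map_surjective _ residue_surjective
  have hker : RingHom.ker res = (maximalIdeal R).map (C : R →+* R[X]) := by
    rw [Polynomial.ker_mapRingHom, ker_residue]
  have hψC : ψ.comp C = algebraMap R L := by ext r; simp [hψ]
  have hkerK : (RingHom.ker res).map ψ = K := by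
    rw [hker, Ideal.map_map, hψC]
  obtain ⟨π₀, hπ₀⟩ := IsPrincipalIdealRing.principal (P.map res)
  obtain ⟨π, hπP, hπ⟩ := (Ideal.mem_map_iff_of_surjective res hres).1
    (show π₀ ∈ P.map res by rw [hπ₀]; exact Submodule.mem_span_singleton_self _)
  have hPle : P ≤ Ideal.span {π} ⊔ RingHom.ker res := by
    intro y hy
    have : res y ∈ P.map res := Ideal.mem_map_of_mem _ hy
    rw [hπ₀] at this
    obtain ⟨c, hc⟩ := Submodule.mem_span_singleton.1 this
    obtain ⟨c', rfl⟩ := hres c
    have : y - c' * π ∈ RingHom.ker res := by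
      rw [RingHom.mem_ker, map_sub, map_mul, hπ, ← hc, smul_eq_mul, sub_self]
    have e : y = c' * π + (y - c' * π) := by ring
    rw [e]
    exact add_mem (Ideal.mem_sup_left (Ideal.mul_mem_left _ _ (Ideal.mem_span_singleton_self π)))
      (Ideal.mem_sup_right this)
  have hmL : maximalIdeal L = Ideal.span {ψ π} ⊔ K := by
    refine le_antisymm (hm.trans ((Ideal.map_mono hPle).trans ?_)) (sup_le ?_ fibreIdeal_le)
    · rw [Ideal.map_sup, hkerK, Ideal.map_span, Set.image_singleton]
    · exact (Ideal.span_singleton_le_iff_mem _).2 hπP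
  by_cases h0 : π₀ = 0
  · refine Or.inl ⟨le_antisymm ?_ fibreIdeal_le, ?_⟩
    · rw [hmL]
      refine sup_le ((Ideal.span_singleton_le_iff_mem _).2 ?_) le_rfl
      rw [← hkerK]
      exact Ideal.mem_map_of_mem _ (by rw [RingHom.mem_ker, hπ, h0])
    · rintro ⟨F, hF, hFa⟩
      have : res F ∈ P.map res := Ideal.mem_map_of_mem _ hFa
      rw [hπ₀, h0] at this
      exact hF (by simpa [res] using this)
  · refine Or.inr ⟨ψ π, ?_, hπP, hmL⟩
    letI : Algebra R[X] L := ψ.toAlgebra
    haveI : Module.Flat R[X] L := hflat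
    let Q := RingHom.ker res
    have hM : Function.Injective (LinearMap.lsmul R[X] (R[X] ⧸ Q) π) := by
      rw [injective_iff_map_eq_zero]
      intro z hz
      obtain ⟨z, rfl⟩ := Ideal.Quotient.mk_surjective z
      have : π * z ∈ Q := Ideal.Quotient.eq_zero_iff_mem.1 hz
      rw [RingHom.mem_ker, map_mul, hπ, mul_eq_zero] at this
      exact Ideal.Quotient.eq_zero_iff_mem.2 (RingHom.mem_ker.2 (this.resolve_left h0))
    have hreg : IsSMulRegular (L ⊗[R[X]] (R[X] ⧸ Q)) π := by
      have := Module.Flat.lTensor_preserves_injective_linearMap (M := L) _ hM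
      intro x y hxy
      apply this
      have e : (LinearMap.lsmul R[X] (R[X] ⧸ Q) π).lTensor L = LinearMap.lsmul R[X] _ π := by
        ext; simp [TensorProduct.smul_tmul', TensorProduct.tmul_smul]
      rw [e]; exact hxy
    have hreg' := ((TensorProduct.tensorQuotEquivQuotSMul L Q).isSMulRegular_congr π).1 hreg
    rw [isSMulRegular_quotient_iff_mem_of_smul_mem] at hreg' ⊢
    intro x hx
    have e : ∀ z : L, z ∈ (Q • ⊤ : Submodule R[X] L) ↔ z ∈ K := fun z => by
      rw [Ideal.smul_top_eq_map]
      show z ∈ Q.map ψ ↔ _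
      rw [hkerK]
    exact (e x).1 (hreg' x ((e _).2 (by rw [Algebra.smul_def]; exact hx)))

/-- On a smooth curve over the residue field, an ideal with finite quotient is generated by one regular
element modulo the fibre ideal. -/
theorem exists_fibre_generator (a : L) (hflat : (Polynomial.aeval (R := R) a).toRingHom.Flat)
    (hm : maximalIdeal L ≤
      ((maximalIdeal L).comap (Polynomial.aeval (R := R) a).toRingHom).map (Polynomial.aeval (R := R) a).toRingHom)
    (J : Ideal L) (hJ : J ≤ maximalIdeal L) [Module.Finite R (L ⧸ (J ⊔ fibreIdeal R L))] :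
    ∃ h ∈ J, IsSMulRegular (L ⧸ fibreIdeal R L) h ∧ J ≤ Ideal.span {h} ⊔ fibreIdeal R L := by
  set K := fibreIdeal R L
  obtain ⟨F, hF, hFa⟩ := Algebra.IsIntegral.isIntegral (R := R) (Ideal.Quotient.mk (J ⊔ K) a)
  have hFa' : Polynomial.aeval a F ∈ J ⊔ K := by
    rw [← Ideal.Quotient.eq_zero_iff_mem, ← Ideal.Quotient.mkₐ_eq_mk R, ← Polynomial.aeval_algHom_apply]
    exact hFa
  obtain ⟨-, hno⟩ | ⟨π, hreg, hπm, hmL⟩ := exists_uniformizer a hflat hm
  · exact absurd ⟨F, (hF.map (residue R)).ne_zero, sup_le hJ fibreIdeal_le hFa'⟩ hno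
  -- powers of `π` lie in `J + K`
  let W := L ⧸ (J ⊔ K)
  haveI : Nontrivial W := Ideal.Quotient.nontrivial_iff.2
    (ne_top_of_le_ne_top (maximalIdeal.isMaximal L).ne_top (sup_le hJ fibreIdeal_le))
  letI : Algebra (ResidueField R) W := Ideal.Quotient.lift (maximalIdeal R) (algebraMap R W) (fun r hr => by
    rw [IsScalarTower.algebraMap_apply R L W]
    exact Ideal.Quotient.eq_zero_iff_mem.2 (Ideal.mem_sup_right (Ideal.mem_map_of_mem _ hr))) |>.toAlgebra
  haveI : IsScalarTower R (ResidueField R) W := IsScalarTower.of_algebraMap_eq fun r => rfl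
  haveI : Module.Finite (ResidueField R) W := Module.Finite.of_restrictScalars_finite R _ _
  haveI : IsArtinianRing W := isArtinian_of_tower (ResidueField R) inferInstance
  obtain ⟨N, hN⟩ : IsNilpotent (Ideal.Quotient.mk (J ⊔ K) π) := by
    rw [nilpotent_iff_mem_prime]
    intro q hq
    haveI : q.IsMaximal := IsArtinianRing.isMaximal_of_isPrime q
    have : (q.comap (Ideal.Quotient.mk (J ⊔ K))).IsMaximal :=
      Ideal.comap_isMaximal_of_surjective _ Ideal.Quotient.mk_surjective
    rw [← Ideal.mem_comap, IsLocalRing.eq_maximalIdeal this]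
    exact hπm
  haveI : Nontrivial (L ⧸ K) :=
    Ideal.Quotient.nontrivial_iff.2 (ne_top_of_le_ne_top (maximalIdeal.isMaximal L).ne_top fibreIdeal_le)
  haveI : IsLocalRing (L ⧸ K) := .of_surjective' (Ideal.Quotient.mk K) Ideal.Quotient.mk_surjective
  have hmax : maximalIdeal (L ⧸ K) = Ideal.span {Ideal.Quotient.mk K π} := by
    rw [← IsLocalRing.map_maximalIdeal_of_surjective (Ideal.Quotient.mk K) Ideal.Quotient.mk_surjective, hmL,
      Ideal.map_sup, Ideal.map_quotient_self, sup_bot_eq, Ideal.map_span, Set.image_singleton]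
  have hNJ : Ideal.Quotient.mk K π ^ N ∈ J.map (Ideal.Quotient.mk K) := by
    rw [← map_pow, Ideal.mem_quotient_iff_mem_sup]
    exact Ideal.Quotient.eq_zero_iff_mem.1 (by rw [map_pow]; exact hN)
  obtain ⟨n, hn⟩ := exists_eq_span_pow hmax hNJ
  obtain ⟨h, hhJ, hh⟩ := (Ideal.mem_map_iff_of_surjective (Ideal.Quotient.mk K) Ideal.Quotient.mk_surjective).1
    (hn.ge (Ideal.mem_span_singleton_self _))
  refine ⟨h, hhJ, ?_, fun y hy => ?_⟩
  · have e : ∀ z : L ⧸ K, h • z = π ^ n • z := fun z => by
      rw [Algebra.smul_def, Algebra.smul_def, Ideal.Quotient.algebraMap_eq, map_pow, hh]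
    intro x y hxy
    exact hreg.pow n (by simpa only [e] using hxy)
  · have : Ideal.Quotient.mk K y ∈ (Ideal.span {h}).map (Ideal.Quotient.mk K) := by
      rw [Ideal.map_span, Set.image_singleton, hh, ← hn]
      exact Ideal.mem_map_of_mem _ hy
    exact Ideal.mem_quotient_iff_mem_sup.1 this

omit [IsLocalHom (algebraMap R L)] in
/-- The generator modulo the fibre generates when the quotient is flat. -/
theorem eq_span_of_flat_quotient [IsLocalHom (algebraMap R L)] (J : Ideal L) (hJ : J.FG)
    [Module.Flat R (L ⧸ J)] {h : L} (hh : h ∈ J) (hle : J ≤ Ideal.span {h} ⊔ fibreIdeal R L) :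
    J = Ideal.span {h} := by
  refine le_antisymm ?_ ((Ideal.span_singleton_le_iff_mem _).2 hh)
  refine Submodule.le_of_le_smul_of_le_jacobson_bot hJ
    (show fibreIdeal R L ≤ Ideal.jacobson ⊥ by rw [jacobson_eq_maximalIdeal _ bot_ne_top]; exact fibreIdeal_le)
    fun y hy => ?_
  obtain ⟨u, hu, v, hv, rfl⟩ := Submodule.mem_sup.1 (hle hy)
  refine Submodule.add_mem_sup hu (inf_map_le_mul (maximalIdeal R) J ⟨?_, hv⟩)
  have := sub_mem hy ((Ideal.span_singleton_le_iff_mem J).2 hh hu)
  rwa [add_sub_cancel_left] at this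

end GrothLib.RelDiv
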