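import Groth.Agent.Lib.RelDiv.Alg
import Groth.Agent.Lib.BlowUp.StalkIdeal
import Groth.Agent.Lib.FibreFlat.Slice
import Groth.Agent.Lib.FibreFlat.Stalk
import Mathlib.AlgebraicGeometry.Morphisms.FinitePresentation

/-!
# The fibre criterion for relative effective Cartier divisors
-/

universe u

open CategoryTheory AlgebraicGeometry IsLocalRing

namespace GrothLib.RelDiv

open GrothLib.BlowUp (CartierOn exists_affine_mem_le)

variable {X S : Scheme.{u}}

lemma germ_comp_res {U V : X.affineOpens} (h : V.1 ≤ U.1) {x : X} (hx : x ∈ V.1) :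
    (X.presheaf.germ V.1 x hx).hom.comp (X.presheaf.map (homOfLE h).op).hom =
      (X.presheaf.germ U.1 x (h hx)).hom :=
  congrArg CommRingCat.Hom.hom (TopCat.Presheaf.germ_res X.presheaf (homOfLE h) x hx)

lemma map_germ_mono (I : X.IdealSheafData) {U V : X.affineOpens} (h : V.1 ≤ U.1) {x : X} (hx : x ∈ V.1) :
    (I.ideal U).map (X.presheaf.germ U.1 x (h hx)).hom = (I.ideal V).map (X.presheaf.germ V.1 x hx).hom := by
  rw [← I.map_ideal (U := V) (V := U) h, Ideal.map_map]
  exact congrArg (Ideal.map · _) (germ_comp_res h hx).symm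

/-- The stalk of an ideal sheaf can be computed on any affine neighbourhood. -/
lemma map_germ_eq (I : X.IdealSheafData) (U V : X.affineOpens) {x : X} (hU : x ∈ U.1) (hV : x ∈ V.1) :
    (I.ideal U).map (X.presheaf.germ U.1 x hU).hom = (I.ideal V).map (X.presheaf.germ V.1 x hV).hom := by
  obtain ⟨W, hxW, hW⟩ := exists_affine_mem_le (W := U.1 ⊓ V.1) (x := x) ⟨hU, hV⟩
  rw [map_germ_mono I (hW.trans inf_le_left) hxW, map_germ_mono I (hW.trans inf_le_right) hxW]

/-- An element generating the stalk of a finitely generated ideal generates it nearby. -/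
lemma exists_ideal_eq_span (I : X.IdealSheafData) (U : X.affineOpens) (hfg : (I.ideal U).FG) {x : X}
    (hx : x ∈ U.1) (a : Γ(X, U.1))
    (ha : (I.ideal U).map (X.presheaf.germ U.1 x hx).hom = Ideal.span {X.presheaf.germ U.1 x hx a}) :
    ∃ c : Γ(X, U.1), x ∈ X.basicOpen c ∧ I.ideal (X.affineBasicOpen c) =
      Ideal.span {X.presheaf.map (homOfLE (X.basicOpen_le c)).op a} := by
  classical
  let Q := (U.2.primeIdealOf ⟨x, hx⟩).asIdeal
  letI : Algebra Γ(X, U.1) (X.presheaf.stalk x) := (X.presheaf.germ U.1 x hx).hom.toAlgebra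
  haveI : IsLocalization.AtPrime (X.presheaf.stalk x) Q := U.2.isLocalization_stalk ⟨x, hx⟩
  obtain ⟨G, hG⟩ := hfg
  have h1 : ∀ g ∈ G, ∃ m ∈ Q.primeCompl, m * g ∈ Ideal.span {a} := fun g hg => by
    rw [← IsLocalization.algebraMap_mem_map_algebraMap_iff Q.primeCompl (X.presheaf.stalk x)]
    rw [Ideal.map_span, Set.image_singleton]
    exact ha.le (Ideal.mem_map_of_mem _ (hG ▸ Ideal.subset_span hg))
  choose! m hm hmg using h1
  obtain ⟨m0, hm0, hm0a⟩ : ∃ m ∈ Q.primeCompl, m * a ∈ I.ideal U := by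
    rw [← IsLocalization.algebraMap_mem_map_algebraMap_iff Q.primeCompl (X.presheaf.stalk x)]
    exact ha.ge (Ideal.mem_span_singleton_self _)
  let c := m0 * ∏ g ∈ G, m g
  have hc : c ∈ Q.primeCompl := mul_mem hm0 (prod_mem hm)
  have hxc : x ∈ X.basicOpen c := by
    rw [Scheme.mem_basicOpen X c x hx]
    exact (IsLocalization.AtPrime.isUnit_to_map_iff (X.presheaf.stalk x) Q c).mpr hc
  refine ⟨c, hxc, ?_⟩
  set V := X.affineBasicOpen c
  have hVU : V.1 ≤ U.1 := X.basicOpen_le c
  set r := (X.presheaf.map (homOfLE hVU).op).hom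
  have hu : IsUnit (r c) :=
    RingedSpace.isUnit_res_basicOpen (X := X.toLocallyRingedSpace.toRingedSpace) c
  have hdiv : ∀ m', m' ∣ c → IsUnit (r m') := fun m' h => isUnit_of_dvd_unit (map_dvd r h) hu
  rw [← I.map_ideal (U := V) (V := U) hVU]
  refine le_antisymm ?_ ?_
  · rw [← hG, Ideal.map_span, Ideal.span_le]
    rintro _ ⟨g, hg, rfl⟩
    have := Ideal.mem_map_of_mem r (hmg g hg)
    rw [map_mul, Ideal.map_span, Set.image_singleton] at this
    exact (Ideal.unit_mul_mem_iff_mem _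
      (hdiv (m g) ((Finset.dvd_prod_of_mem m hg).trans (dvd_mul_left _ _)))).mp this
  · refine (Ideal.span_singleton_le_iff_mem _).mpr ?_
    have := Ideal.mem_map_of_mem r hm0a
    rw [map_mul] at this
    exact (Ideal.unit_mul_mem_iff_mem _ (hdiv m0 (dvd_mul_right _ _))).mp this

variable (f : X ⟶ S)

lemma flat_appLE_res {U : S.affineOpens} {V V' : X.affineOpens} (h : V'.1 ≤ V.1) (e : V.1 ≤ f ⁻¹ᵁ U.1) :
    (X.presheaf.map (homOfLE h).op).hom.comp (f.appLE U.1 V.1 e).hom = (f.appLE U.1 V'.1 (h.trans e)).hom := by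
  rw [← CommRingCat.hom_comp, Scheme.Hom.appLE_map]

/-- An ideal whose stalk at `x` is generated by an element regular on the fibre is a relative effective
Cartier divisor near `x`. -/
theorem exists_relCartier_nhd [LocallyOfFinitePresentation f] (I : X.IdealSheafData) (x : X)
    (hflat : (f.stalkMap x).hom.Flat) (W : X.affineOpens) (hxW : x ∈ W.1) (hfg : (I.ideal W).FG)
    (h : X.presheaf.stalk x)
    (hreg : IsSMulRegular (X.presheaf.stalk x ⧸ (maximalIdeal (S.presheaf.stalk (f x))).map (f.stalkMap x).hom) h)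
    (hI : (I.ideal W).map (X.presheaf.germ W.1 x hxW).hom = Ideal.span {h}) :
    ∃ (U : S.affineOpens) (V : X.affineOpens) (e : V.1 ≤ f ⁻¹ᵁ U.1), x ∈ V.1 ∧ CartierOn I V ∧
      ((Ideal.Quotient.mk (I.ideal V)).comp (f.appLE U.1 V.1 e).hom).Flat := by
  classical
  by_cases hu : IsUnit h
  · obtain ⟨U, hxU, -⟩ := exists_affine_mem_le (W := (⊤ : S.Opens)) (x := f x) trivial
    obtain ⟨V₁, hxV₁, hV₁⟩ := exists_affine_mem_le (W := W.1 ⊓ f ⁻¹ᵁ U.1) (x := x) ⟨hxW, hxU⟩
    have h1 : (I.ideal V₁).map (X.presheaf.germ V₁.1 x hxV₁).hom =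
        Ideal.span {X.presheaf.germ V₁.1 x hxV₁ 1} := by
      rw [map_germ_eq I V₁ W hxV₁ hxW, hI, map_one, Ideal.span_singleton_one,
        Ideal.span_singleton_eq_top.mpr hu]
    obtain ⟨c, hxc, hc⟩ := exists_ideal_eq_span I V₁
      (I.map_ideal (U := V₁) (V := W) (hV₁.trans inf_le_left) ▸ hfg.map _) hxV₁ 1 h1
    rw [map_one] at hc
    refine ⟨U, X.affineBasicOpen c, ((X.basicOpen_le c).trans hV₁).trans inf_le_right, hxc, ⟨1, one_mem _, hc⟩, ?_⟩
    haveI : Subsingleton (Γ(X, (X.affineBasicOpen c).1) ⧸ I.ideal (X.affineBasicOpen c)) :=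
      Ideal.Quotient.subsingleton_iff.mpr (hc.trans Ideal.span_singleton_one)
    algebraize [((Ideal.Quotient.mk (I.ideal (X.affineBasicOpen c))).comp (f.appLE U.1 (X.affineBasicOpen c).1
      (((X.basicOpen_le c).trans hV₁).trans inf_le_right)).hom)]
    exact RingHom.flat_algebraMap_iff.mpr inferInstance
  · have hreg' : RingTheory.Sequence.IsRegular
        (X.presheaf.stalk x ⧸ (maximalIdeal (S.presheaf.stalk (f x))).map (f.stalkMap x).hom)
        ((List.ofFn ![h]).map (Ideal.Quotient.mk ((maximalIdeal (S.presheaf.stalk (f x))).map (f.stalkMap x).hom))) := by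
      set K := (maximalIdeal (S.presheaf.stalk (f x))).map (f.stalkMap x).hom
      have hle : K ≤ maximalIdeal _ := Ideal.map_le_iff_le_comap.2 fun r hr => by
        simpa [mem_maximalIdeal, mem_nonunits_iff] using fun h => hr (isUnit_of_map_unit (f.stalkMap x).hom r h)
      simp only [List.ofFn_succ, List.ofFn_zero, Matrix.cons_val_zero, List.map_cons, List.map_nil]
      refine ⟨?_, ?_⟩
      · rw [RingTheory.Sequence.isWeaklyRegular_singleton_iff]
        intro a b hab
        exact hreg (by simpa [Algebra.smul_def] using hab)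
      · intro htop
        rw [Ideal.ofList_singleton, smul_eq_mul, Ideal.mul_top] at htop
        have : Ideal.span {h} ⊔ K = ⊤ := by
          have h' := congrArg (Ideal.comap (Ideal.Quotient.mk K)) htop.symm
          rw [Ideal.comap_top, ← Set.image_singleton, ← Ideal.map_span,
            Ideal.comap_map_of_surjective _ Ideal.Quotient.mk_surjective, ← RingHom.ker_eq_comap_bot,
            Ideal.mk_ker] at h'
          exact h'
        exact (maximalIdeal.isMaximal _).ne_top (top_le_iff.mp (this ▸ sup_le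
          ((Ideal.span_singleton_le_iff_mem _).2 hu) hle))
    obtain ⟨U₀, V₀, hV₀, hx₀, hVU, a, hU₀, ha, -, haflat⟩ := FibreFlat.exists_slice f x hflat ![h] hreg'
    let U : S.affineOpens := ⟨U₀, hU₀⟩
    obtain ⟨V₁, hxV₁, hV₁⟩ := exists_affine_mem_le (W := V₀ ⊓ W.1) (x := x) ⟨hx₀, hxW⟩
    let a₁ : Γ(X, V₁.1) := X.presheaf.map (homOfLE (hV₁.trans inf_le_left)).op (a 0)
    have ha₁ : X.presheaf.germ V₁.1 x hxV₁ a₁ = h :=
      (TopCat.Presheaf.germ_res_apply _ _ _ _ _).trans (ha 0)
    obtain ⟨c, hxc, hc⟩ := exists_ideal_eq_span I V₁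
      (I.map_ideal (U := V₁) (V := W) (hV₁.trans inf_le_right) ▸ hfg.map _) hxV₁ a₁
      (by rw [map_germ_eq I V₁ W hxV₁ hxW, hI, ha₁])
    let V₂ := X.affineBasicOpen c
    have h20 : V₂.1 ≤ V₀ := (X.basicOpen_le c).trans (hV₁.trans inf_le_left)
    have e : V₂.1 ≤ f ⁻¹ᵁ U.1 := h20.trans hVU
    let a₂ : Γ(X, V₂.1) := X.presheaf.map (homOfLE h20).op (a 0)
    have hc' : I.ideal V₂ = Ideal.span {a₂} := by
      rw [hc]
      congr 2
      simp only [a₂, a₁, ← CommRingCat.comp_apply, ← Functor.map_comp, ← op_comp, homOfLE_comp]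
      rfl
    have haflat' : letI := (f.appLE U.1 V₂.1 e).hom.toAlgebra;
        (MvPolynomial.aeval (R := Γ(S, U.1)) ![a₂]).toRingHom.Flat := by
      letI alg0 := (f.appLE U.1 V₀ hVU).hom.toAlgebra
      have h0 : (MvPolynomial.aeval (R := Γ(S, U.1)) a).toRingHom.Flat := haflat
      have hres : (X.presheaf.map (homOfLE h20).op).hom.Flat :=
        GrothLib.BlowUp.flat_res (U := ⟨V₀, hV₀⟩) (V := V₂) h20
      have key := RingHom.Flat.comp h0 hres
      convert key using 1
      refine MvPolynomial.ringHom_ext (fun t => ?_) fun i => ?_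
      · simp [RingHom.algebraMap_toAlgebra, ← CommRingCat.comp_apply, Scheme.Hom.appLE_map]
      · fin_cases i; simp [a₂]
    letI := (f.appLE U.1 V₂.1 e).hom.toAlgebra
    refine ⟨U, V₂, e, hxc, ⟨a₂, ?_, hc'⟩, ?_⟩
    · have := FibreFlat.weaklyRegular_of_flat_aeval haflat'
      simp only [List.ofFn_succ, List.ofFn_zero, Matrix.cons_val_zero] at this
      rw [RingTheory.Sequence.isWeaklyRegular_singleton_iff] at this
      rw [mem_nonZeroDivisors_iff_right]
      intro y hy
      exact this (show a₂ • y = a₂ • (0 : _) by rw [smul_eq_mul, smul_eq_mul, mul_zero, mul_comm]; exact hy)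
    · have := FibreFlat.flat_quotient_of_flat_aeval haflat'
      rw [show Ideal.ofList (List.ofFn ![a₂]) = I.ideal V₂ by
        simp [hc', List.ofFn_succ, Ideal.ofList_singleton]] at this
      exact this

lemma fg_ideal_of_lfp (I : X.IdealSheafData) [LocallyOfFinitePresentation f]
    [LocallyOfFinitePresentation (I.subschemeι ≫ f)] (U : S.affineOpens) (V : X.affineOpens)
    (e : V.1 ≤ f ⁻¹ᵁ U.1) : (I.ideal V).FG := by
  have := (I.subschemeι ≫ f).finitePresentation_appLE U.2 (V.2.preimage I.subschemeι) (fun x hx => e hx)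
  rw [GrothLib.BlowUp.subscheme_appLE_eq f I U V e] at this
  replace this := (RingHom.finitePresentation_respectsIso.cancel_right_isIso _ _).mp this
  have hA := f.finitePresentation_appLE U.2 V.2 e
  algebraize [(f.appLE U.1 V.1 e).hom]
  haveI : Algebra.FinitePresentation Γ(S, U.1) (Γ(X, V.1) ⧸ I.ideal V) := this
  rw [← Ideal.mk_ker (I := I.ideal V)]
  exact Algebra.FinitePresentation.ker_fG_of_surjective (Ideal.Quotient.mkₐ Γ(S, U.1) (I.ideal V)) Ideal.Quotient.mk_surjective

lemma mem_support_of_map_germ_ne_top (I : X.IdealSheafData) (V : X.affineOpens) {x : X} (hx : x ∈ V.1)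
    (h : (I.ideal V).map (X.presheaf.germ V.1 x hx).hom ≠ ⊤) : x ∈ I.support := by
  rw [Scheme.IdealSheafData.mem_support_iff_of_mem hx]
  rw [Scheme.mem_zeroLocus_iff]
  intro a ha hxa
  rw [Scheme.mem_basicOpen X a x hx] at hxa
  exact h (Ideal.eq_top_of_isUnit_mem _ (Ideal.mem_map_of_mem _ ha) hxa)

/-- The quotient of the stalk by the stalk of the ideal is flat over the base. -/
lemma flat_quotient_stalk (I : X.IdealSheafData) [Flat (I.subschemeι ≫ f)] (x : X) (V : X.affineOpens)
    (hx : x ∈ V.1) :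
    ((Ideal.Quotient.mk ((I.ideal V).map (X.presheaf.germ V.1 x hx).hom)).comp (f.stalkMap x).hom).Flat := by
  by_cases htop : (I.ideal V).map (X.presheaf.germ V.1 x hx).hom = ⊤
  · haveI := Ideal.Quotient.subsingleton_iff.mpr htop
    algebraize [(Ideal.Quotient.mk ((I.ideal V).map (X.presheaf.germ V.1 x hx).hom)).comp (f.stalkMap x).hom]
    exact RingHom.flat_algebraMap_iff.mpr inferInstance
  · have := mem_support_of_map_germ_ne_top I V hx htop
    rw [← SetLike.mem_coe, ← Scheme.IdealSheafData.range_subschemeι] at this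
    obtain ⟨d, rfl⟩ := this
    have hk := GrothLib.BlowUp.ker_stalkMap_subschemeι I d V hx
    have hcomp : ((I.subschemeι ≫ f).stalkMap d).hom.Flat := Flat.stalkMap _ _
    rw [Scheme.Hom.stalkMap_comp] at hcomp
    erw [CommRingCat.hom_comp] at hcomp
    let E := (Ideal.quotEquivOfEq hk.symm).trans
      (RingHom.quotientKerEquivOfSurjective (I.subschemeι.stalkMap_surjective d))
    have := RingHom.Flat.comp hcomp (RingHom.Flat.of_bijective (f := E.symm.toRingHom) E.symm.bijective)
    have e : (Ideal.Quotient.mk ((I.ideal V).map (X.presheaf.germ V.1 (I.subschemeι d) hx).hom)).comp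
        (f.stalkMap (I.subschemeι d)).hom =
        E.symm.toRingHom.comp ((I.subschemeι.stalkMap d).hom.comp (f.stalkMap (I.subschemeι d)).hom) :=
      RingHom.ext fun r => E.injective (by simp [E])
    rw [e]
    exact this

/-- **Fibre criterion for relative effective Cartier divisors.** -/
theorem isEffCartierIdeal_of_fibres [Flat f] [LocallyOfFinitePresentation f] (I : X.IdealSheafData)
    [Flat (I.subschemeι ≫ f)] [LocallyOfFinitePresentation (I.subschemeι ≫ f)]
    (hfib : ∀ s : S, _root_.BlowUp.IsEffCartierIdeal (I.comap (f.fiberι s))) :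
    _root_.BlowUp.IsEffCartierIdeal I := by
  intro x
  obtain ⟨s, z, rfl⟩ : ∃ (s : S) (z : f.fiber s), f.fiberι s z = x :=
    ⟨f x, show x ∈ Set.range (f.fiberι (f x)) by rw [f.range_fiberι]; rfl⟩
  obtain ⟨U, hxU, -⟩ := exists_affine_mem_le (W := (⊤ : S.Opens)) (x := f (f.fiberι s z)) trivial
  obtain ⟨W, hxW, hWU⟩ := exists_affine_mem_le (W := f ⁻¹ᵁ U.1) (x := f.fiberι s z) hxU
  obtain ⟨V, hzV, hVW, g, hg, hgI⟩ :=
    GrothLib.BlowUp.exists_cartierOn_le (hfib _) (W := f.fiberι _ ⁻¹ᵁ W.1) (x := z) hxW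
  have hgI' := hgI
  rw [GrothLib.BlowUp.ideal_comap_eq_map I _ W V hVW] at hgI'
  obtain ⟨hsurj, hker⟩ := FibreFlat.fiberι_stalkMap f _ z
  set x := f.fiberι _ z
  let π := ((f.fiberι _).stalkMap z).hom
  let J := (I.ideal W).map (X.presheaf.germ W.1 x hxW).hom
  let γ := (f.fiber _).presheaf.germ V.1 z hzV g
  have hJπ : J.map π = Ideal.span {γ} := by
    have := congrArg (Ideal.map ((f.fiber _).presheaf.germ V.1 z hzV).hom) hgI'
    rw [Ideal.map_map, Ideal.map_span, Set.image_singleton] at this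
    rw [← this, Ideal.map_map]
    congr 1
    rw [← CommRingCat.hom_comp, ← CommRingCat.hom_comp, Scheme.Hom.germ_stalkMap, Scheme.Hom.appLE,
      Category.assoc, TopCat.Presheaf.germ_res]
  obtain ⟨h, hhJ, hh⟩ := (Ideal.mem_map_iff_of_surjective π hsurj).1 (hJπ.ge (Ideal.mem_span_singleton_self γ))
  have hγ := GrothLib.BlowUp.germ_mem_nonZeroDivisors hg hzV
  letI := (f.stalkMap x).hom.toAlgebra
  haveI : IsLocalHom (algebraMap (S.presheaf.stalk (f x)) (X.presheaf.stalk x)) :=
    inferInstanceAs (IsLocalHom (f.stalkMap x).hom)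
  haveI : Module.Flat (S.presheaf.stalk (f x)) (X.presheaf.stalk x ⧸ J) :=
    RingHom.flat_algebraMap_iff.mp (flat_quotient_stalk f I x W hxW)
  have hJ : J = Ideal.span {h} := by
    refine eq_span_of_flat_quotient (R := S.presheaf.stalk (f x)) J ((fg_ideal_of_lfp f I U W hWU).map _) hhJ fun y hy => ?_
    obtain ⟨c, hc⟩ := Ideal.mem_span_singleton.1 (hJπ.le (Ideal.mem_map_of_mem π hy))
    obtain ⟨c', rfl⟩ := hsurj c
    rw [← sub_add_cancel y (c' * h), add_comm]
    refine Submodule.add_mem_sup (Ideal.mem_span_singleton'.2 ⟨c', rfl⟩) ?_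
    show y - c' * h ∈ (maximalIdeal (S.presheaf.stalk (f x))).map (f.stalkMap x).hom
    rw [← hker, RingHom.mem_ker]
    show π _ = 0
    rw [map_sub, map_mul, hh, hc, mul_comm, sub_self]
  obtain ⟨-, V', -, hxV', hC, -⟩ := exists_relCartier_nhd f I x (Flat.stalkMap _ _) W hxW (fg_ideal_of_lfp f I U W hWU) h (by
    rw [isSMulRegular_quotient_iff_mem_of_smul_mem]
    intro y hy
    rw [← hker, RingHom.mem_ker] at hy ⊢
    change π y = 0
    change π (h * y) = 0 at hy
    rw [map_mul, hh] at hy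
    exact (mul_left_mem_nonZeroDivisors_eq_zero_iff hγ).mp hy) hJ
  exact ⟨V', hxV', hC⟩

end GrothLib.RelDiv
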